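import Groth.Agent.QCohBase.Finite
import Mathlib.AlgebraicGeometry.Morphisms.Finite
import Mathlib.AlgebraicGeometry.Noetherian

/-!
# Basic properties of coherent modules
-/

noncomputable section

universe u

open CategoryTheory Limits AlgebraicGeometry Opposite TopologicalSpace

namespace Groth.Agent.QCohBase

variable {X : Scheme.{u}}

/-- Sections as a linear map. -/
def appL {M N : X.Modules} (φ : M ⟶ N) (U : X.Opens) : Γ(M, U) →ₗ[Γ(X, U)] Γ(N, U) where
  toFun := φ.app U
  map_add' := map_add _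
  map_smul' r x := Scheme.Modules.Hom.app_smul φ r x

lemma appL_apply {M N : X.Modules} (φ : M ⟶ N) (U : X.Opens) (s : Γ(M, U)) :
    appL φ U s = φ.app U s := rfl

lemma isNoetherianRing_sections [IsLocallyNoetherian X] {U : X.Opens} (hU : IsAffineOpen U) :
    IsNoetherianRing Γ(X, U) :=
  IsLocallyNoetherian.component_noetherian ⟨U, hU⟩

lemma isFiniteType_toFinite {M : X.Modules} (hM : Coh.IsCoh M) {U : X.Opens} (hU : IsAffineOpen U) :
    Module.Finite Γ(X, U) Γ(M, U) :=
  ((isCoh_iff M).1 hM).2 U hU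

/-- A quasi-coherent submodule of a coherent module is coherent on a locally Noetherian scheme. -/
theorem isCoh_of_mono [IsLocallyNoetherian X] {M N : X.Modules} (i : N ⟶ M) [Mono i]
    (hM : Coh.IsCoh M) (hN : N.IsQuasicoherent) : Coh.IsCoh N :=
  (isCoh_iff N).2 ⟨hN, fun U hU => by
    haveI := isNoetherianRing_sections hU
    haveI := isFiniteType_toFinite hM hU
    exact Module.Finite.of_injective (appL i U) (app_injective_of_mono i U)⟩

/-- Quasi-coherent modules which receive surjections on affine sections from coherent ones. -/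
theorem isCoh_kernel [IsLocallyNoetherian X] {M N : X.Modules} (φ : M ⟶ N)
    (hM : Coh.IsCoh M) (hN : N.IsQuasicoherent) : Coh.IsCoh (kernel φ) :=
  isCoh_of_mono (kernel.ι φ) hM (isQuasicoherent_kernel φ hM.1 hN)

/-- An epimorphism of quasi-coherent modules is surjective on affine opens. -/
theorem app_surjective_of_epi {M N : X.Modules} (φ : M ⟶ N) [Epi φ] (hM : M.IsQuasicoherent)
    (hN : N.IsQuasicoherent) {U : X.Opens} (hU : IsAffineOpen U) :
    Function.Surjective (φ.app U) := by
  let T : ShortComplex X.Modules := ShortComplex.mk (kernel.ι φ) φ (kernel.condition φ)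
  have hT : T.ShortExact :=
    { exact := ShortComplex.exact_of_f_is_kernel _ (kernelIsKernel φ)
      mono_f := inferInstanceAs (Mono (kernel.ι φ))
      epi_g := inferInstanceAs (Epi φ) }
  exact sections_surjective_affine hT (isQuasicoherent_kernel φ hM hN) hU

/-- A quasi-coherent quotient of a coherent module is coherent. -/
theorem isCoh_of_epi {M N : X.Modules} (p : M ⟶ N) [Epi p]
    (hM : Coh.IsCoh M) (hN : N.IsQuasicoherent) : Coh.IsCoh N :=
  (isCoh_iff N).2 ⟨hN, fun U hU => by
    haveI := isFiniteType_toFinite hM hU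
    exact Module.Finite.of_surjective (appL p U) (app_surjective_of_epi p hM.1 hN hU)⟩

/-- Cokernels of maps into coherent modules are coherent. -/
theorem isCoh_cokernel {M N : X.Modules} (φ : M ⟶ N)
    (hM : M.IsQuasicoherent) (hN : Coh.IsCoh N) : Coh.IsCoh (cokernel φ) :=
  isCoh_of_epi (cokernel.π φ) hN (isQuasicoherent_cokernel φ hM hN.1)

/-- Direct images of coherent modules under finite morphisms are coherent. -/
theorem isCoh_pushforward_of_isFinite {Y : Scheme.{u}} (f : X ⟶ Y) [IsFinite f]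
    {M : X.Modules} (hM : Coh.IsCoh M) :
    Coh.IsCoh ((Scheme.Modules.pushforward f).obj M) := by
  haveI := hM.1
  refine (isCoh_iff _).2 ⟨isQuasicoherent_pushforward M f, fun U hU => ?_⟩
  have hV : IsAffineOpen (f ⁻¹ᵁ U) := hU.preimage f
  letI := (f.app U).hom.toAlgebra
  haveI h1 : Module.Finite Γ(X, f ⁻¹ᵁ U) Γ(M, f ⁻¹ᵁ U) := isFiniteType_toFinite hM hV
  haveI h2 : Module.Finite Γ(Y, U) Γ(X, f ⁻¹ᵁ U) := f.finite_app U hU
  letI : Module Γ(Y, U) Γ(M, f ⁻¹ᵁ U) := Module.compHom _ (f.app U).hom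
  haveI : IsScalarTower Γ(Y, U) Γ(X, f ⁻¹ᵁ U) Γ(M, f ⁻¹ᵁ U) :=
    IsScalarTower.of_algebraMap_smul fun r x => rfl
  have := Module.Finite.trans (R := Γ(Y, U)) Γ(X, f ⁻¹ᵁ U) Γ(M, f ⁻¹ᵁ U)
  exact this

end Groth.Agent.QCohBase
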