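import Groth.Agent.QCohBase.Criteria
import Mathlib.AlgebraicGeometry.Morphisms.QuasiSeparated

/-!
# Sections over quasi-compact quasi-separated opens; direct images
-/

noncomputable section

universe u

open CategoryTheory Limits AlgebraicGeometry Opposite TopologicalSpace

namespace Groth.Agent.QCohBase

variable {X : Scheme.{u}}

lemma eq_of_iSup_le (M : X.Modules) {ι : Type*} (W : ι → X.Opens) {V : X.Opens}
    (hle : ∀ i, W i ≤ V) (hcov : V ≤ ⨆ i, W i) (s t : Γ(M, V))
    (h : ∀ i, mres M (hle i) s = mres M (hle i) t) : s = t :=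
  TopCat.Sheaf.eq_of_locally_eq' ⟨M.presheaf, M.isSheaf⟩ W V (fun i => homOfLE (hle i)) hcov s t h

lemma basicOpen_ores {V W : X.Opens} (h : W ≤ V) (f : Γ(X, V)) :
    X.basicOpen (ores h f) = W ⊓ X.basicOpen f :=
  Scheme.basicOpen_res X f (homOfLE h).op

/-- Finite affine cover of a quasi-compact open. -/
lemma exists_finite_affine_cover {V : X.Opens} (hV : IsCompact (V : Set X)) :
    ∃ (ι : Type u) (_ : Finite ι) (W : ι → X.Opens),
      (∀ i, IsAffineOpen (W i)) ∧ (∀ i, W i ≤ V) ∧ V ≤ ⨆ i, W i := by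
  have key : ∀ x : V, ∃ W : X.Opens, IsAffineOpen W ∧ x.1 ∈ W ∧ W ≤ V := fun x => by
    obtain ⟨W, hW, hx, hWV⟩ := Opens.isBasis_iff_nbhd.1 X.isBasis_affineOpens x.2
    exact ⟨W, hW, hx, hWV⟩
  choose W hW hx hWV using key
  obtain ⟨t, ht⟩ := hV.elim_finite_subcover (fun x : V => (W x : Set X)) (fun x => (W x).2)
    (fun x h => Set.mem_iUnion.2 ⟨⟨x, h⟩, hx ⟨x, h⟩⟩)
  refine ⟨↥t, inferInstance, fun j => W j, fun j => hW _, fun j => hWV _, fun x h => ?_⟩
  obtain ⟨j, hj, hxj⟩ := Set.mem_iUnion₂.1 (ht h)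
  exact Opens.mem_iSup.2 ⟨⟨j, hj⟩, hxj⟩

variable (M : X.Modules) [M.IsQuasicoherent]

/-- On a quasi-compact open, a section vanishing where `f` is invertible is killed by a power. -/
lemma exists_pow_smul_eq_zero_of_isCompact {V : X.Opens} (hV : IsCompact (V : Set X))
    (f : Γ(X, V)) {W : X.Opens} (hW : W = X.basicOpen f) (h : W ≤ V) (y : Γ(M, V))
    (hy : mres M h y = 0) : ∃ n : ℕ, f ^ n • y = 0 := by
  obtain ⟨ι, _, A, hA, hAV, hcov⟩ := exists_finite_affine_cover hV
  have : ∀ i, ∀ᶠ n in Filter.atTop, ores (hAV i) f ^ n • mres M (hAV i) y = 0 := fun i => by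
    have hle : A i ⊓ W ≤ A i := inf_le_left
    obtain ⟨n, hn⟩ := exists_pow_smul_eq_zero M (hA i) (ores (hAV i) f)
      (W := A i ⊓ W) (by rw [basicOpen_ores, hW]) hle (mres M (hAV i) y) (by
        have := congrArg (mres M (inf_le_right : A i ⊓ W ≤ W)) hy
        rw [mres_mres, map_zero] at this
        rwa [mres_mres])
    refine Filter.eventually_atTop.2 ⟨n, fun m hm => ?_⟩
    rw [← Nat.sub_add_cancel hm, pow_add, mul_smul, hn, smul_zero]
  obtain ⟨n, hn⟩ := (Filter.eventually_all.2 this).exists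
  refine ⟨n, eq_of_iSup_le M A hAV hcov _ _ fun i => ?_⟩
  rw [mres_smul, map_pow, map_zero, hn i]

/-- On a quasi-compact quasi-separated open, sections where `f` is invertible extend after
multiplying by a power. -/
lemma exists_pow_smul_eq_mres_of_qcqs {V : X.Opens} (hV : IsCompact (V : Set X))
    (hV' : IsQuasiSeparated (V : Set X)) (f : Γ(X, V)) {W : X.Opens} (hW : W = X.basicOpen f)
    (h : W ≤ V) (x : Γ(M, W)) :
    ∃ (n : ℕ) (y : Γ(M, V)), mres M h y = ores h f ^ n • x := by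
  classical
  obtain ⟨ι, _, A, hA, hAV, hcov⟩ := exists_finite_affine_cover hV
  have hlift : ∀ i, ∀ᶠ n in Filter.atTop, ∃ y : Γ(M, A i),
      mres M (inf_le_left : A i ⊓ W ≤ A i) y =
        ores ((inf_le_right : A i ⊓ W ≤ W).trans h) f ^ n • mres M inf_le_right x := fun i => by
    obtain ⟨n, y, hy⟩ := exists_pow_smul_eq_mres M (hA i) (ores (hAV i) f)
      (W := A i ⊓ W) (by rw [basicOpen_ores, hW]) inf_le_left
      (mres M (inf_le_right : A i ⊓ W ≤ W) x)
    refine Filter.eventually_atTop.2 ⟨n, fun m hm => ⟨ores (hAV i) f ^ (m - n) • y, ?_⟩⟩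
    rw [mres_smul, hy, map_pow, ores_ores, smul_smul, ← pow_add, Nat.sub_add_cancel hm]
  obtain ⟨N, hN⟩ := (Filter.eventually_all.2 hlift).exists
  choose y hy using hN
  have hagree : ∀ z : ι × ι, ∀ᶠ m in Filter.atTop,
      ores ((inf_le_left : A z.1 ⊓ A z.2 ≤ A z.1).trans (hAV z.1)) f ^ m •
        (mres M (inf_le_left : A z.1 ⊓ A z.2 ≤ A z.1) (y z.1) - mres M inf_le_right (y z.2)) =
      (0 : Γ(M, A z.1 ⊓ A z.2)) := by
    rintro ⟨i, j⟩
    have hc : IsCompact ((A i ⊓ A j : X.Opens) : Set X) :=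
      hV' (A i) (A j) (hAV i) (A i).2 (hA i).isCompact (hAV j) (A j).2 (hA j).isCompact
    have hcij : A i ⊓ A j ≤ V := inf_le_left.trans (hAV i)
    obtain ⟨m, hm⟩ := exists_pow_smul_eq_zero_of_isCompact M hc (ores hcij f)
      (W := A i ⊓ A j ⊓ W) (by rw [basicOpen_ores, hW]) inf_le_left
      (mres M (inf_le_left : A i ⊓ A j ≤ A i) (y i) - mres M inf_le_right (y j)) (by
        have h1 := congrArg (mres M (le_inf (inf_le_left.trans inf_le_left) inf_le_right :
          A i ⊓ A j ⊓ W ≤ A i ⊓ W)) (hy i)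
        have h2 := congrArg (mres M (le_inf (inf_le_left.trans inf_le_right) inf_le_right :
          A i ⊓ A j ⊓ W ≤ A j ⊓ W)) (hy j)
        rw [mres_mres, mres_smul, mres_mres, map_pow, ores_ores] at h1 h2
        rw [map_sub, mres_mres, mres_mres, sub_eq_zero]
        exact h1.trans h2.symm)
    refine Filter.eventually_atTop.2 ⟨m, fun m' hm' => ?_⟩
    rw [← Nat.sub_add_cancel hm', pow_add, mul_smul, hm, smul_zero]
  obtain ⟨m, hm⟩ := (Filter.eventually_all.2 hagree).exists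
  let sf : ∀ i, Γ(M, A i) := fun i => ores (hAV i) f ^ m • y i
  have hc : TopCat.Presheaf.IsCompatible M.presheaf A sf := fun i j => by
    have := hm (i, j)
    rw [smul_sub, sub_eq_zero] at this
    change mres M inf_le_left (sf i) = mres M inf_le_right (sf j)
    simp only [sf, mres_smul, map_pow, ores_ores]
    exact this
  obtain ⟨t, ht, -⟩ := TopCat.Sheaf.existsUnique_gluing' ⟨M.presheaf, M.isSheaf⟩ A V
    (fun i => homOfLE (hAV i)) hcov sf hc
  have hcovW : W ≤ ⨆ i, A i ⊓ W := fun z hz => by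
    obtain ⟨i, hi⟩ := Opens.mem_iSup.1 (hcov (h hz))
    exact Opens.mem_iSup.2 ⟨i, hi, hz⟩
  refine ⟨m + N, t, eq_of_iSup_le M (fun i => A i ⊓ W) (fun i => inf_le_right) hcovW _ _ fun i => ?_⟩
  have h1 : mres M (inf_le_left : A i ⊓ W ≤ A i) (mres M (hAV i) t) =
      mres M inf_le_left (sf i) := congrArg _ (ht i)
  rw [mres_mres, mres_smul, map_pow, ores_ores, hy i, smul_smul, ← pow_add] at h1
  rw [mres_mres, mres_smul, map_pow, ores_ores]
  exact h1

lemma localizesOn_of_qcqs {V : X.Opens} (hV : IsCompact (V : Set X))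
    (hV' : IsQuasiSeparated (V : Set X)) : LocalizesOn M V := fun f =>
  ⟨fun x => exists_pow_smul_eq_mres_of_qcqs M hV hV' f rfl _ x,
    fun y hy => exists_pow_smul_eq_zero_of_isCompact M hV f rfl _ y hy⟩

/-- Direct images along qcqs morphisms preserve quasi-coherence. -/
theorem isQuasicoherent_pushforward {Y : Scheme.{u}} (g : X ⟶ Y) [QuasiCompact g]
    [QuasiSeparated g] : ((Scheme.Modules.pushforward g).obj M).IsQuasicoherent :=
  isQuasicoherent_of_forall_localizesOn fun U hU f => by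
    have hV : IsCompact ((g ⁻¹ᵁ U : X.Opens) : Set X) :=
      g.isCompact_preimage hU.isCompact
    have hV' : IsQuasiSeparated ((g ⁻¹ᵁ U : X.Opens) : Set X) :=
      g.isQuasiSeparated_preimage hU.isQuasiSeparated
    have hW : g ⁻¹ᵁ Y.basicOpen f = X.basicOpen (g.app U f) := Scheme.preimage_basicOpen g f
    have hnat : ∀ (n : ℕ), (g.app (Y.basicOpen f) (ores (Y.basicOpen_le f) f ^ n)) =
        ores (show g ⁻¹ᵁ Y.basicOpen f ≤ g ⁻¹ᵁ U from g.preimage_mono (Y.basicOpen_le f))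
          (g.app U f) ^ n := fun n => by
      rw [map_pow]
      exact congrArg (· ^ n) (ConcreteCategory.congr_hom (g.naturality (homOfLE (Y.basicOpen_le f)).op) f)
    refine ⟨fun x => ?_, fun y hy => ?_⟩
    · obtain ⟨n, y, hy⟩ := exists_pow_smul_eq_mres_of_qcqs M hV hV' (g.app U f) hW
        (g.preimage_mono (Y.basicOpen_le f)) (show Γ(M, g ⁻¹ᵁ Y.basicOpen f) from x)
      refine ⟨n, y, hy.trans ?_⟩
      rw [← hnat]
      rfl
    · obtain ⟨n, hn⟩ := exists_pow_smul_eq_zero_of_isCompact M hV (g.app U f) hW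
        (g.preimage_mono (Y.basicOpen_le f)) (show Γ(M, g ⁻¹ᵁ U) from y) hy
      refine ⟨n, Eq.trans ?_ hn⟩
      change g.app U (f ^ n) • (show Γ(M, g ⁻¹ᵁ U) from y) = _
      rw [map_pow]

end Groth.Agent.QCohBase
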