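import Groth.Agent.QCohBase.Localization

/-!
# Criteria for quasi-coherence; colimits of quasi-coherent modules
-/

noncomputable section

universe u

open CategoryTheory Limits AlgebraicGeometry Opposite TopologicalSpace

namespace Groth.Agent.QCohBase

variable {X : Scheme.{u}}

/-- A presentation of `M|_U` gives one of `M.over U`. -/
def presentationOver {M : X.Modules} (U : X.Opens) (P : (M.restrict U.ι).Presentation) :
    SheafOfModules.Presentation (SheafOfModules.over M U) :=
  let E := Scheme.Modules.overEquiv U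
  let ηo : (SheafOfModules.overFunctor X.ringCatSheaf U).obj (SheafOfModules.unit X.ringCatSheaf) ≅
      SheafOfModules.unit (X.ringCatSheaf.over U) := Iso.refl _
  let η : SheafOfModules.unit (X.ringCatSheaf.over U) ≅
      E.inverse.obj (SheafOfModules.unit (U : Scheme.{u}).ringCatSheaf) :=
    ηo.symm ≪≫ E.unitIso.app _ ≪≫ E.inverse.mapIso
      ((Scheme.Modules.overFunctorEquiv U).app (SheafOfModules.unit X.ringCatSheaf) ≪≫
        Scheme.Modules.restrictUnitIso U.ι)
  have : PreservesColimitsOfSize.{u, u} E.inverse := inferInstance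
  SheafOfModules.Presentation.ofIsIso.{u, u, u}
    ((E.inverse.mapIso ((Scheme.Modules.overFunctorEquiv U).app M).symm ≪≫
      (E.unitIso.app (SheafOfModules.over M U)).symm).hom)
    (P.map E.inverse η)

/-- Quasi-coherence is local. -/
theorem isQuasicoherent_of_presentation {M : X.Modules}
    (h : ∀ x : X, ∃ U : X.Opens, x ∈ U ∧ Nonempty (M.restrict U.ι).Presentation) :
    M.IsQuasicoherent := by
  choose U hxU hP using h
  refine SheafOfModules.QuasicoherentData.isQuasicoherent.{u} (M := M)
    ({ I := X
       X := U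
       coversTop := ?_
       presentation := fun x => presentationOver (U x) (hP x).some } :
      SheafOfModules.QuasicoherentData.{u, u, u} M)
  rw [Opens.coversTop_iff]
  exact top_le_iff.1 fun x _ => Opens.mem_iSup.2 ⟨x, hxU x⟩

/-- Presentation of the restriction to an affine open from quasi-coherence on its spectrum. -/
def presentationOfAffine {M : X.Modules} {U : X.Opens} (hU : IsAffineOpen U)
    (hi : IsIso (M.restrict hU.fromSpec).fromTildeΓ) : (M.restrict U.ι).Presentation :=
  let N := (modulesSpecToSheaf.obj (M.restrict hU.fromSpec)).presheaf.obj (op ⊤)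
  let P₀ : (tilde N).Presentation :=
    presentationTilde.{u} N .univ (by simp) _ (Submodule.span_eq _)
  let P₁ : (M.restrict hU.fromSpec).Presentation :=
    SheafOfModules.Presentation.ofIsIso.{u, u, u}
      (@asIso _ _ _ _ (M.restrict hU.fromSpec).fromTildeΓ hi).hom P₀
  SheafOfModules.Presentation.ofIsIso.{u, u, u}
    (((Scheme.Modules.restrictFunctorComp hU.isoSpec.hom hU.fromSpec).symm ≪≫
      Scheme.Modules.restrictFunctorCongr hU.isoSpec_hom_fromSpec).app M).hom
    (Scheme.Modules.presentationRestrict hU.isoSpec.hom P₁)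

/-- Quasi-coherence can be checked on some affine open neighbourhood of each point. -/
theorem isQuasicoherent_of_affine {M : X.Modules}
    (h : ∀ x : X, ∃ (U : X.Opens) (hU : IsAffineOpen U),
      x ∈ U ∧ IsIso (M.restrict hU.fromSpec).fromTildeΓ) :
    M.IsQuasicoherent :=
  isQuasicoherent_of_presentation fun x => by
    obtain ⟨U, hU, hxU, hi⟩ := h x
    exact ⟨U, hxU, ⟨presentationOfAffine hU hi⟩⟩

/-- The two localisation properties for sections of `M` on an affine open. -/
def LocalizesOn (M : X.Modules) (U : X.Opens) : Prop :=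
  ∀ f : Γ(X, U),
    (∀ x : Γ(M, X.basicOpen f), ∃ (n : ℕ) (y : Γ(M, U)),
      mres M (X.basicOpen_le f) y = ores (X.basicOpen_le f) f ^ n • x) ∧
    (∀ y : Γ(M, U), mres M (X.basicOpen_le f) y = 0 → ∃ n : ℕ, f ^ n • y = 0)

lemma localizesOn_of_isQuasicoherent (M : X.Modules) [M.IsQuasicoherent] {U : X.Opens}
    (hU : IsAffineOpen U) : LocalizesOn M U := fun f =>
  ⟨fun x => exists_pow_smul_eq_mres M hU f rfl _ x,
    fun y hy => exists_pow_smul_eq_zero M hU f rfl _ y hy⟩

lemma isIso_fromTildeΓ_of_localizesOn {M : X.Modules} {U : X.Opens} (hU : IsAffineOpen U)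
    (h : LocalizesOn M U) : IsIso (M.restrict hU.fromSpec).fromTildeΓ := by
  rw [isIso_fromTildeΓ_iff_isLocalizing]
  intro f
  obtain ⟨hlift, hkill⟩ := h f
  let V : (Spec Γ(X, U)).Opens := PrimeSpectrum.basicOpen f
  let V₀ : (Spec Γ(X, U)).Opens := ⊤
  have hD : hU.fromSpec ''ᵁ V = X.basicOpen f := hU.fromSpec_image_basicOpen f
  have hT : hU.fromSpec ''ᵁ V₀ = U := fromSpec_image_top hU
  refine IsLocalizedModule.Away.mk_of_addCommGroup
    (Scheme.Modules.isUnit_algebraMap_end_of_le_basicOpen f le_rfl) (fun x => ?_) (fun x hx => ?_)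
  · obtain ⟨n, y, hy⟩ := hlift (mres M hD.ge ((M.restrictAppIso hU.fromSpec V).hom x))
    refine ⟨n, (M.restrictAppIso hU.fromSpec V₀).inv (mres M hT.le y), ?_⟩
    have h1 := congrArg (mres M hD.le) hy
    rw [mres_mres, mres_smul, mres_mres, mres_refl, map_pow, ores_ores] at h1
    let x' : Γ(M.restrict hU.fromSpec, V) := x
    change (f ^ n) • x' = (M.restrict hU.fromSpec).presheaf.map V.leTop.op _
    refine (ConcreteCategory.bijective_of_isIso (M.restrictAppIso hU.fromSpec V).hom).1 ?_
    change (M.restrictAppIso hU.fromSpec V).hom _ = (M.restrictAppIso hU.fromSpec V).hom _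
    rw [smul_restrict_fromSpec hU M V _ (hD.le.trans (X.basicOpen_le f)), map_pow,
      Scheme.Modules.map_restrictAppIso_hom_apply, Iso.inv_hom_id_apply]
    refine Eq.trans ?_ (mres_mres M _ _ _).symm
    exact h1.symm
  · let x' : Γ(M.restrict hU.fromSpec, V₀) := x
    have hx' : (M.restrict hU.fromSpec).presheaf.map V.leTop.op x' = 0 := hx
    have h1 := congr(mres M hD.ge ((M.restrictAppIso hU.fromSpec V).hom $hx'))
    rw [map_zero, map_zero, Scheme.Modules.map_restrictAppIso_hom_apply] at h1
    obtain ⟨n, hn⟩ := hkill (mres M hT.ge ((M.restrictAppIso hU.fromSpec V₀).hom x'))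
      (((mres_mres M _ _ _).trans (mres_mres M _ _ _).symm).trans h1)
    refine ⟨n, ?_⟩
    change (f ^ n) • x' = 0
    refine (ConcreteCategory.bijective_of_isIso (M.restrictAppIso hU.fromSpec V₀).hom).1 ?_
    change (M.restrictAppIso hU.fromSpec V₀).hom _ = (M.restrictAppIso hU.fromSpec V₀).hom 0
    rw [smul_restrict_fromSpec hU M V₀ _ hT.le, map_zero, map_pow]
    have h2 := congrArg (mres M hT.le) hn
    rw [mres_smul, mres_mres, mres_refl, map_pow, map_zero] at h2
    exact h2

/-- Quasi-coherence from localisation of sections on enough affine opens. -/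
theorem isQuasicoherent_of_localizesOn {M : X.Modules}
    (h : ∀ x : X, ∃ U : X.Opens, IsAffineOpen U ∧ x ∈ U ∧ LocalizesOn M U) :
    M.IsQuasicoherent :=
  isQuasicoherent_of_affine fun x => by
    obtain ⟨U, hU, hxU, hl⟩ := h x
    exact ⟨U, hU, hxU, isIso_fromTildeΓ_of_localizesOn hU hl⟩

theorem isQuasicoherent_of_forall_localizesOn {M : X.Modules}
    (h : ∀ U : X.Opens, IsAffineOpen U → LocalizesOn M U) : M.IsQuasicoherent :=
  isQuasicoherent_of_localizesOn fun x => by
    obtain ⟨U, hU, hxU, -⟩ :=
      Opens.isBasis_iff_nbhd.1 X.isBasis_affineOpens (U := ⊤) (Opens.mem_top x)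
    exact ⟨U, hU, hxU, h U hU⟩

/-- Quasi-coherence can be tested on an open cover. -/
theorem isQuasicoherent_of_cover {M : X.Modules} {ι : Type*} (U : ι → X.Opens)
    (hU : ∀ x : X, ∃ i, x ∈ U i) (h : ∀ i, (M.restrict (U i).ι).IsQuasicoherent) :
    M.IsQuasicoherent :=
  isQuasicoherent_of_affine fun x => by
    obtain ⟨i, hxi⟩ := hU x
    obtain ⟨V, hV, hxV, hVU⟩ := Opens.isBasis_iff_nbhd.1 X.isBasis_affineOpens hxi
    have := h i
    refine ⟨V, hV, hxV, ?_⟩
    let t : Spec Γ(X, V) ⟶ (U i : Scheme.{u}) := hV.isoSpec.inv ≫ X.homOfLE hVU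
    have hq : ((Scheme.Modules.restrictFunctor t).obj (M.restrict (U i).ι)).IsQuasicoherent :=
      inferInstance
    have : (M.restrict hV.fromSpec).IsQuasicoherent :=
      (SheafOfModules.isQuasicoherent (Spec Γ(X, V)).ringCatSheaf).prop_of_iso
        (((Scheme.Modules.restrictFunctorComp t (U i).ι).symm ≪≫
          Scheme.Modules.restrictFunctorCongr
            (show t ≫ (U i).ι = hV.fromSpec by simp [t])).app M) hq
    infer_instance

section Colimits

variable {R : CommRingCat.{u}}

/-- On an affine spectrum, colimits of quasi-coherent modules are quasi-coherent. -/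
theorem isQuasicoherent_colimit_spec {J : Type*} [Category* J] (F : J ⥤ (Spec R).Modules)
    (hF : ∀ j, (F.obj j).IsQuasicoherent) [HasColimit F]
    [HasColimitsOfShape J (ModuleCat.{u} R)] : (colimit F).IsQuasicoherent := by
  have : ∀ j, IsIso ((Functor.whiskerLeft F (Scheme.Modules.fromTildeΓNatTrans (R := R))).app j) :=
    fun j => by
      have := hF j
      exact inferInstanceAs (IsIso (F.obj j).fromTildeΓ)
  have : IsIso (Functor.whiskerLeft F (Scheme.Modules.fromTildeΓNatTrans (R := R))) :=
    NatIso.isIso_of_isIso_app _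
  let K : J ⥤ ModuleCat.{u} R := F ⋙ moduleSpecΓFunctor (R := R)
  let e : K ⋙ tilde.functor R ≅ F :=
    asIso (Functor.whiskerLeft F (Scheme.Modules.fromTildeΓNatTrans (R := R)))
  have hq : ((tilde.functor R).obj (colimit K)).IsQuasicoherent := inferInstance
  exact (SheafOfModules.isQuasicoherent (Spec R).ringCatSheaf).prop_of_iso
    (IsColimit.coconePointsIsoOfNatIso (isColimitOfPreserves (tilde.functor R) (colimit.isColimit K))
      (colimit.isColimit F) e) hq

end Colimits

/-- Colimits of quasi-coherent modules are quasi-coherent. -/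
theorem isQuasicoherent_colimit {J : Type u} [SmallCategory J] (F : J ⥤ X.Modules)
    (hF : ∀ j, (F.obj j).IsQuasicoherent) : (colimit F).IsQuasicoherent :=
  isQuasicoherent_of_affine fun x => by
    obtain ⟨U, hU, hxU, -⟩ :=
      Opens.isBasis_iff_nbhd.1 X.isBasis_affineOpens (U := ⊤) (Opens.mem_top x)
    refine ⟨U, hU, hxU, ?_⟩
    have : (colimit (F ⋙ Scheme.Modules.restrictFunctor hU.fromSpec)).IsQuasicoherent :=
      isQuasicoherent_colimit_spec _ fun j => by
        have := hF j
        exact inferInstanceAs ((Scheme.Modules.restrictFunctor hU.fromSpec).obj (F.obj j)).IsQuasicoherent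
    have : ((colimit F).restrict hU.fromSpec).IsQuasicoherent :=
      (SheafOfModules.isQuasicoherent (Spec Γ(X, U)).ringCatSheaf).prop_of_iso
        (preservesColimitIso (Scheme.Modules.restrictFunctor hU.fromSpec) F).symm
        (inferInstanceAs (colimit (F ⋙ Scheme.Modules.restrictFunctor hU.fromSpec)).IsQuasicoherent)
    infer_instance

/-- Cokernels of maps of quasi-coherent modules are quasi-coherent. -/
theorem isQuasicoherent_cokernel {M N : X.Modules} (φ : M ⟶ N)
    (hM : M.IsQuasicoherent) (hN : N.IsQuasicoherent) : (cokernel φ).IsQuasicoherent :=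
  isQuasicoherent_of_affine fun x => by
    obtain ⟨U, hU, hxU, -⟩ :=
      Opens.isBasis_iff_nbhd.1 X.isBasis_affineOpens (U := ⊤) (Opens.mem_top x)
    refine ⟨U, hU, hxU, ?_⟩
    let r := Scheme.Modules.restrictFunctor hU.fromSpec
    have : (colimit (parallelPair (r.map φ) 0)).IsQuasicoherent :=
      isQuasicoherent_colimit_spec _ fun j => by
        rcases j with _ | _
        exacts [inferInstanceAs (r.obj M).IsQuasicoherent, inferInstanceAs (r.obj N).IsQuasicoherent]
    have : (r.obj (cokernel φ)).IsQuasicoherent :=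
      (SheafOfModules.isQuasicoherent (Spec Γ(X, U)).ringCatSheaf).prop_of_iso
        (PreservesCokernel.iso r φ).symm
        (inferInstanceAs (colimit (parallelPair (r.map φ) 0)).IsQuasicoherent)
    exact inferInstanceAs (IsIso (r.obj (cokernel φ)).fromTildeΓ)

end Groth.Agent.QCohBase
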