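import Groth.Agent.QCohBase.CohProps
import Groth.Prelude.Def_QCohCat
import Mathlib.CategoryTheory.Subobject.NoetherianObject
import Mathlib.Data.DFinsupp.WellFounded

/-!
# Noetherian objects among quasi-coherent modules
-/

noncomputable section

universe u

open CategoryTheory Limits AlgebraicGeometry Opposite TopologicalSpace

namespace Groth.Agent.QCohBase

variable {X : Scheme.{u}}

/-- A module with vanishing stalks is zero. -/
lemma isZero_of_stalks {M : X.Modules} (h : ∀ x : X, Subsingleton (M.presheaf.stalk x)) :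
    IsZero M := by
  rw [IsZero.iff_id_eq_zero]
  refine Scheme.Modules.hom_ext _ _ fun U => ?_
  ext s
  change s = 0
  refine TopCat.Presheaf.section_ext (F := (Coh.toAb M : TopCat.Sheaf AddCommGrpCat.{u} X.toTopCat))
    U s 0 fun x hx => ?_
  haveI := h x
  exact Subsingleton.elim (α := M.presheaf.stalk x) _ _

/-- A quasi-coherent module without sections on an affine cover is zero. -/
lemma isZero_of_sections {M : X.Modules} [M.IsQuasicoherent] {ι : Type*} (U : ι → X.Opens)
    (hU : ∀ i, IsAffineOpen (U i)) (hcov : ∀ x, ∃ i, x ∈ U i)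
    (h : ∀ i, Subsingleton Γ(M, U i)) : IsZero M :=
  isZero_of_stalks fun x => by
    obtain ⟨i, hi⟩ := hcov x
    exact (subsingleton_stalk_iff M (hU i) x hi).2 fun s =>
      ⟨1, by rw [Scheme.basicOpen_one]; exact hi, by haveI := h i; exact Subsingleton.elim _ _⟩

/-- A monomorphism of quasi-coherent modules which is surjective on an affine cover is iso. -/
lemma isIso_of_app_surjective {M N : X.Modules} (φ : M ⟶ N) [Mono φ] (hM : M.IsQuasicoherent)
    (hN : N.IsQuasicoherent) {ι : Type*} (U : ι → X.Opens) (hU : ∀ i, IsAffineOpen (U i))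
    (hcov : ∀ x, ∃ i, x ∈ U i) (h : ∀ i, Function.Surjective (φ.app (U i))) : IsIso φ := by
  haveI := isQuasicoherent_cokernel φ hM hN
  have hz : IsZero (cokernel φ) := isZero_of_sections U hU hcov fun i => by
    refine subsingleton_of_forall_eq 0 fun c => ?_
    obtain ⟨b, rfl⟩ := app_surjective_of_epi (cokernel.π φ) hN (by assumption) (hU i) c
    obtain ⟨a, rfl⟩ := h i b
    rw [← ConcreteCategory.comp_apply, ← Scheme.Modules.Hom.comp_app, cokernel.condition]
    rfl
  haveI : Epi φ := Preadditive.epi_of_cokernel_zero (hz.eq_of_tgt _ _)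
  exact isIso_of_mono_of_epi φ

/-- The image of a subobject in sections on an open. -/
def sectionsImage (M : X.Modules) (P : Subobject M) (U : X.Opens) : Submodule Γ(X, U) Γ(M, U) :=
  LinearMap.range (appL P.arrow U)

lemma sectionsImage_mono (M : X.Modules) {P Q : Subobject M} (h : P ≤ Q) (U : X.Opens) :
    sectionsImage M P U ≤ sectionsImage M Q U := by
  rintro _ ⟨s, rfl⟩
  refine ⟨(Subobject.ofLE P Q h).app U s, ?_⟩
  simp only [appL_apply]
  rw [← ConcreteCategory.comp_apply, ← Scheme.Modules.Hom.comp_app, Subobject.ofLE_arrow]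

/-- Nested quasi-coherent subobjects with equal images on an affine cover are equal. -/
lemma eq_of_sectionsImage_le (M : X.Modules) {P Q : Subobject M} (h : P ≤ Q)
    (hP : (P : X.Modules).IsQuasicoherent) (hQ : (Q : X.Modules).IsQuasicoherent)
    {ι : Type*} (U : ι → X.Opens) (hU : ∀ i, IsAffineOpen (U i)) (hcov : ∀ x, ∃ i, x ∈ U i)
    (himg : ∀ i, sectionsImage M Q (U i) ≤ sectionsImage M P (U i)) : P = Q := by
  haveI : IsIso (Subobject.ofLE P Q h) := isIso_of_app_surjective _ hP hQ U hU hcov fun i t => by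
    obtain ⟨s, hs⟩ := himg i ⟨t, rfl⟩
    refine ⟨s, app_injective_of_mono Q.arrow _ ?_⟩
    rw [← ConcreteCategory.comp_apply, ← Scheme.Modules.Hom.comp_app, Subobject.ofLE_arrow]
    exact hs
  exact le_antisymm h (Subobject.le_of_comm (inv (Subobject.ofLE P Q h)) (by simp))

lemma exists_finite_affine_cover' (X : Scheme.{u}) [CompactSpace X] :
    ∃ (ι : Type u) (_ : Finite ι) (U : ι → X.Opens), (∀ i, IsAffineOpen (U i)) ∧
      ∀ x, ∃ i, x ∈ U i := by
  classical
  have key : ∀ x : X, ∃ U : X.Opens, IsAffineOpen U ∧ x ∈ U := fun x => by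
    obtain ⟨U, hU, hxU, -⟩ := Opens.isBasis_iff_nbhd.1 X.isBasis_affineOpens (U := ⊤) (Opens.mem_top x)
    exact ⟨U, hU, hxU⟩
  choose U hU hxU using key
  obtain ⟨t, ht⟩ := isCompact_univ.elim_finite_subcover (fun x => (U x : Set X)) (fun x => (U x).2)
    fun x _ => Set.mem_iUnion.2 ⟨x, hxU x⟩
  refine ⟨↥t, inferInstance, fun i => U i, fun i => hU _, fun x => ?_⟩
  obtain ⟨j, hj, hxj⟩ := Set.mem_iUnion₂.1 (ht (Set.mem_univ x))
  exact ⟨⟨j, hj⟩, hxj⟩

/-- Ascending chains of quasi-coherent submodules of a coherent module stabilise. -/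
theorem chain_stabilizes [IsNoetherian X] {M : X.Modules} (hM : Coh.IsCoh M)
    (F : ℕ →o Subobject M) (hF : ∀ n, (F n : X.Modules).IsQuasicoherent) :
    ∃ n : ℕ, ∀ m : ℕ, n ≤ m → F m = F n := by
  obtain ⟨ι, hι, U, hU, hcov⟩ := exists_finite_affine_cover' X
  haveI : ∀ i, WellFoundedGT (Submodule Γ(X, U i) Γ(M, U i)) := fun i => by
    haveI := isNoetherianRing_sections (hU i)
    haveI := isFiniteType_toFinite hM (hU i)
    infer_instance
  let a : ∀ i, ℕ →o Submodule Γ(X, U i) Γ(M, U i) := fun i =>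
    ⟨fun n => sectionsImage M (F n) (U i), fun _ _ h => sectionsImage_mono M (F.monotone h) _⟩
  choose n hn using fun i => WellFoundedGT.monotone_chain_condition (a i)
  obtain ⟨N, hN⟩ := Finite.exists_le n
  refine ⟨N, fun m hm => (eq_of_sectionsImage_le M (F.monotone hm) (hF N) (hF m) U hU hcov
    fun i => ?_).symm⟩
  have h := ((hn i m ((hN i).trans hm)).symm.trans (hn i N (hN i)))
  exact le_of_eq h

variable {U : X.Opens}

section Extend

variable (M : X.Modules) [M.IsQuasicoherent] (hU : IsAffineOpen U)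

variable (N : Submodule Γ(X, U) Γ(M, U))

/-- The quotient of the sections by `N`, on the sections of the restriction to the spectrum. -/
def quotHom : ((modulesSpecToSheaf.obj (M.restrict hU.fromSpec)).presheaf.obj (op ⊤) :
    ModuleCat.{u} Γ(X, U)) ⟶ ModuleCat.of Γ(X, U) (Γ(M, U) ⧸ N) :=
  ConcreteCategory.ofHom (C := ModuleCat.{u} Γ(X, U)) (N.mkQ ∘ₗ (sectionsEquiv M hU).toLinearMap)

/-- The map from `M|_U` to the sheaf of the quotient by `N`. -/
def quotMap : M.restrict hU.fromSpec ⟶ tilde (ModuleCat.of Γ(X, U) (Γ(M, U) ⧸ N)) :=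
  (asIso (M.restrict hU.fromSpec).fromTildeΓ).inv ≫ tilde.map (quotHom M hU N)

/-- The map from `M` to the direct image of the quotient. -/
def extMap : M ⟶ (Scheme.Modules.pushforward hU.fromSpec).obj
    (tilde (ModuleCat.of Γ(X, U) (Γ(M, U) ⧸ N))) :=
  (Scheme.Modules.restrictAdjunction hU.fromSpec).unit.app M ≫
    (Scheme.Modules.pushforward hU.fromSpec).map (quotMap M hU N)

lemma quotMap_apply_eq_zero_iff
    (t : ((modulesSpecToSheaf.obj (M.restrict hU.fromSpec)).presheaf.obj (op ⊤) :
      ModuleCat.{u} Γ(X, U))) :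
    (quotMap M hU N).app ⊤ (show Γ(M.restrict hU.fromSpec, ⊤) from t) = 0 ↔
      sectionsEquiv M hU t ∈ N := by
  have h1 := tilde.adjunction.right_triangle_components (M.restrict hU.fromSpec)
  have h2 : (moduleSpecΓFunctor).map (asIso (M.restrict hU.fromSpec).fromTildeΓ).inv =
      tilde.adjunction.unit.app ((modulesSpecToSheaf.obj (M.restrict hU.fromSpec)).presheaf.obj (op ⊤)) := by
    rw [← cancel_mono ((moduleSpecΓFunctor).map (asIso (M.restrict hU.fromSpec).fromTildeΓ).hom),
      ← Functor.map_comp, Iso.inv_hom_id, CategoryTheory.Functor.map_id]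
    exact h1.symm
  have h3 : (moduleSpecΓFunctor).map (quotMap M hU N) = quotHom M hU N ≫
      tilde.adjunction.unit.app (ModuleCat.of Γ(X, U) (Γ(M, U) ⧸ N)) := by
    rw [quotMap, Functor.map_comp, h2]
    exact (tilde.adjunction.unit.naturality (quotHom M hU N)).symm
  change (moduleSpecΓFunctor.map (quotMap M hU N)) t = 0 ↔ _
  rw [h3]
  change (tilde.adjunction.unit.app (ModuleCat.of Γ(X, U) (Γ(M, U) ⧸ N))) (N.mkQ (sectionsEquiv M hU t)) = 0 ↔ _
  refine Iff.trans ?_ (Submodule.Quotient.mk_eq_zero N)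
  exact map_eq_zero_iff _ (ConcreteCategory.bijective_of_isIso
    (tilde.adjunction.unit.app (ModuleCat.of Γ(X, U) (Γ(M, U) ⧸ N)))).1

lemma unit_app_apply (s : Γ(M, U)) :
    (show Γ(M.restrict hU.fromSpec, hU.fromSpec ⁻¹ᵁ U) from
      ((Scheme.Modules.restrictAdjunction hU.fromSpec).unit.app M).app U s) =
    mres (M.restrict hU.fromSpec) (le_top : hU.fromSpec ⁻¹ᵁ U ≤ ⊤)
      ((M.restrictAppIso hU.fromSpec ⊤).inv (mres M (fromSpec_image_top hU).le s)) := by
  rw [Scheme.Modules.restrictAdjunction_unit_app_app]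
  exact (mres_mres M _ _ s).symm

lemma extMap_apply_eq_zero_iff (s : Γ(M, U)) :
    (extMap M hU N).app U s = 0 ↔ s ∈ N := by
  refine Iff.trans ?_ (Iff.trans (quotMap_apply_eq_zero_iff M hU N ((sectionsEquiv M hU).symm s))
    (by rw [LinearEquiv.apply_symm_apply]))
  have htop : (⊤ : (Spec Γ(X, U)).Opens) ≤ hU.fromSpec ⁻¹ᵁ U :=
    hU.fromSpec_preimage_self.ge
  let t : Γ(M.restrict hU.fromSpec, ⊤) :=
    (M.restrictAppIso hU.fromSpec ⊤).inv (mres M (fromSpec_image_top hU).le s)
  have e1 : (extMap M hU N).app U s = mres (tilde (ModuleCat.of Γ(X, U) (Γ(M, U) ⧸ N)))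
      (le_top : hU.fromSpec ⁻¹ᵁ U ≤ ⊤) ((quotMap M hU N).app ⊤ t) := by
    rw [app_nat, extMap, Scheme.Modules.Hom.comp_app, ConcreteCategory.comp_apply,
      Scheme.Modules.pushforward_map_app]
    exact congrArg (fun z => (quotMap M hU N).app (hU.fromSpec ⁻¹ᵁ U) z) (unit_app_apply M hU s)
  rw [e1]
  refine map_eq_zero_iff _ (Function.LeftInverse.injective
    (g := mres (tilde (ModuleCat.of Γ(X, U) (Γ(M, U) ⧸ N))) htop) fun z => ?_)
  rw [mres_mres, mres_refl]

lemma isQuasicoherent_extMap_kernel [IsNoetherian X] :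
    (kernel (extMap M hU N)).IsQuasicoherent := by
  haveI : QuasiCompact hU.fromSpec := inferInstance
  haveI : QuasiSeparated hU.fromSpec := inferInstance
  exact isQuasicoherent_kernel _ (by assumption) (isQuasicoherent_pushforward _ hU.fromSpec)

lemma extMap_kernel_comp {N N' : Submodule Γ(X, U) Γ(M, U)} (h : N ≤ N') :
    kernel.ι (extMap M hU N) ≫ extMap M hU N' = 0 := by
  let q : ModuleCat.of Γ(X, U) (Γ(M, U) ⧸ N) ⟶
      ModuleCat.of Γ(X, U) (Γ(M, U) ⧸ N') :=
    ModuleCat.ofHom (Submodule.factor h)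
  have hq : quotMap M hU N' = quotMap M hU N ≫ tilde.map q := by
    simp only [quotMap, Category.assoc]
    rw [← tilde.map_comp]
    congr 2
  have : extMap M hU N' = extMap M hU N ≫
      (Scheme.Modules.pushforward hU.fromSpec).map (tilde.map q) := by
    simp only [extMap, hq, Functor.map_comp, Category.assoc]
  rw [this, kernel.condition_assoc, zero_comp]

end Extend

/-- The inclusion of quasi-coherent modules preserves monomorphisms. -/
lemma mono_hom_of_mono {P Q : QCohCat.QCoh X} (f : P ⟶ Q) [Mono f] : Mono f.hom := by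
  have hk : (kernel f.hom).IsQuasicoherent := isQuasicoherent_kernel f.hom P.property Q.property
  let K : QCohCat.QCoh X := ⟨kernel f.hom, hk⟩
  let i : K ⟶ P := ObjectProperty.homMk (kernel.ι f.hom)
  let z : K ⟶ P := ObjectProperty.homMk 0
  have : i = z := by
    rw [← cancel_mono f]
    refine ObjectProperty.hom_ext _ ?_
    change kernel.ι f.hom ≫ f.hom = (0 : kernel f.hom ⟶ P.obj) ≫ f.hom
    rw [kernel.condition, zero_comp]
  exact Preadditive.mono_of_kernel_zero (congrArg (·.hom) this)

/-- Images in sections of a subobject of a quasi-coherent module. -/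
def qcohImage (M : QCohCat.QCoh X) (P : Subobject M) (U : X.Opens) :
    Submodule Γ(X, U) Γ(M.obj, U) :=
  LinearMap.range (appL P.arrow.hom U)

/-- Noetherian objects of `QCoh` are coherent, and conversely. -/
theorem isNoetherianObject_iff_isCoh [IsNoetherian X] (M : QCohCat.QCoh X) :
    IsNoetherianObject M ↔ Coh.IsCoh M.obj := by
  haveI hMq : M.obj.IsQuasicoherent := M.property
  refine ⟨fun h => (isCoh_iff _).2 ⟨hMq, fun V hV => ?_⟩, fun h => ?_⟩
  · let G : Submodule Γ(X, V) Γ(M.obj, V) → Subobject M := fun N =>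
      @Subobject.mk _ _ _ (⟨kernel (extMap M.obj hV N), isQuasicoherent_extMap_kernel M.obj hV N⟩ :
        QCohCat.QCoh X) (ObjectProperty.homMk (kernel.ι (extMap M.obj hV N))) (((QCohCat.isQCoh X).ι).mono_of_mono_map (inferInstanceAs (Mono (kernel.ι _))))
    have hmono : ∀ N, Mono (ObjectProperty.homMk (P := QCohCat.isQCoh X)
        (kernel.ι (extMap M.obj hV N)) :
        (⟨kernel (extMap M.obj hV N), isQuasicoherent_extMap_kernel M.obj hV N⟩ :
          QCohCat.QCoh X) ⟶ M) :=
      fun N => ((QCohCat.isQCoh X).ι).mono_of_mono_map (inferInstanceAs (Mono (kernel.ι _)))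
    have hG : ∀ N N', G N ≤ G N' ↔ N ≤ N' := by
      intro N N'
      haveI := hmono N
      haveI := hmono N'
      constructor
      · intro hle t ht
        obtain ⟨g, hg⟩ : ∃ g, g ≫ ObjectProperty.homMk (P := QCohCat.isQCoh X)
            (kernel.ι (extMap M.obj hV N')) =
            (ObjectProperty.homMk (P := QCohCat.isQCoh X) (kernel.ι (extMap M.obj hV N)) :
              (⟨kernel (extMap M.obj hV N), isQuasicoherent_extMap_kernel M.obj hV N⟩ :
                QCohCat.QCoh X) ⟶ M) :=
          ⟨Subobject.ofMkLEMk _ _ hle, Subobject.ofMkLEMk_comp hle⟩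
        have hg' : g.hom ≫ kernel.ι (extMap M.obj hV N') = kernel.ι (extMap M.obj hV N) :=
          congrArg (·.hom) hg
        let T : ShortComplex X.Modules := ShortComplex.mk (kernel.ι (extMap M.obj hV N))
          (extMap M.obj hV N) (kernel.condition _)
        haveI : Mono T.f := inferInstanceAs (Mono (kernel.ι _))
        obtain ⟨a, ha⟩ := sections_exact_left (T := T)
          (ShortComplex.exact_of_f_is_kernel _ (kernelIsKernel _)) (U := V)
          t ((extMap_apply_eq_zero_iff M.obj hV N t).2 ht)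
        exact (extMap_apply_eq_zero_iff M.obj hV N' t).1 (by
          rw [← ha]
          change (kernel.ι (extMap M.obj hV N) ≫ extMap M.obj hV N').app V a = 0
          rw [← hg', Category.assoc, kernel.condition, comp_zero]
          rfl)
      · intro hle
        exact Subobject.mk_le_mk_of_comm
          (ObjectProperty.homMk (kernel.lift _ _ (extMap_kernel_comp M.obj hV hle)))
          (ObjectProperty.hom_ext _ (kernel.lift_ι _ _ _))
    haveI : WellFoundedGT (Submodule Γ(X, V) Γ(M.obj, V)) :=
      StrictMono.wellFoundedGT (f := G) fun N N' hlt => by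
        exact lt_of_le_not_ge ((hG _ _).2 hlt.le) fun h' => hlt.not_ge ((hG _ _).1 h')
    haveI : _root_.IsNoetherian Γ(X, V) Γ(M.obj, V) := isNoetherian_iff'.2 inferInstance
    infer_instance
  · rw [isNoetherianObject_iff_monotone_chain_condition]
    intro F
    obtain ⟨ι, hι, U, hU, hcov⟩ := exists_finite_affine_cover' X
    haveI : ∀ i, WellFoundedGT (Submodule Γ(X, U i) Γ(M.obj, U i)) := fun i => by
      haveI := isNoetherianRing_sections (hU i)
      haveI := isFiniteType_toFinite h (hU i)
      infer_instance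
    let a : ∀ i, ℕ →o Submodule Γ(X, U i) Γ(M.obj, U i) := fun i =>
      ⟨fun n => qcohImage M (F n) (U i), fun p q hpq => by
        rintro _ ⟨s, rfl⟩
        refine ⟨(Subobject.ofLE _ _ (F.monotone hpq)).hom.app (U i) s, ?_⟩
        simp only [appL_apply]
        rw [← ConcreteCategory.comp_apply, ← Scheme.Modules.Hom.comp_app]
        exact congrArg (fun f => f.hom.app (U i) s) (Subobject.ofLE_arrow (F.monotone hpq))⟩
    choose n hn using fun i => WellFoundedGT.monotone_chain_condition (a i)
    obtain ⟨N, hN⟩ := Finite.exists_le n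
    refine ⟨N, fun m hm => ?_⟩
    let j := Subobject.ofLE _ _ (F.monotone hm)
    haveI hjm : Mono j.hom := mono_hom_of_mono j
    haveI : IsIso j.hom := isIso_of_app_surjective _ (F N : QCohCat.QCoh X).property
      (F m : QCohCat.QCoh X).property U hU hcov fun i t => by
        have himg : qcohImage M (F m) (U i) = qcohImage M (F N) (U i) :=
          (hn i m ((hN i).trans hm)).symm.trans (hn i N (hN i))
        obtain ⟨s, hs⟩ := himg.le ⟨t, rfl⟩
        haveI := mono_hom_of_mono (F m).arrow
        refine ⟨s, app_injective_of_mono (F m).arrow.hom _ ?_⟩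
        rw [← ConcreteCategory.comp_apply, ← Scheme.Modules.Hom.comp_app]
        refine Eq.trans ?_ hs
        exact congrArg (fun f => f.hom.app (U i) s) (Subobject.ofLE_arrow (F.monotone hm))
    haveI : IsIso ((QCohCat.isQCoh X).ι.map j) := inferInstanceAs (IsIso j.hom)
    haveI : IsIso j := isIso_of_reflects_iso j (QCohCat.isQCoh X).ι
    exact le_antisymm (F.monotone hm) (Subobject.le_of_comm (inv j) (by simp [j]))

end Groth.Agent.QCohBase
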