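import Mathlib.CategoryTheory.Abelian.RightDerived
import Mathlib.Algebra.Homology.HomologicalComplexAbelian

/-!
# A criterion for vanishing of right derived functors
-/

noncomputable section

open CategoryTheory Limits HomologicalComplex

namespace Groth.Agent.QCohBase

variable {C D : Type*} [Category* C] [Abelian C] [Category* D] [Abelian D]

/-- The short complex of cycles of a cochain complex. -/
abbrev cyclesSeq (K : CochainComplex C ℕ) (j : ℕ) : ShortComplex C :=
  ShortComplex.mk (K.iCycles j) (K.toCycles j (j + 1))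
    (by rw [← cancel_mono (K.iCycles (j + 1)), Category.assoc, toCycles_i, iCycles_d, zero_comp])

lemma cyclesSeq_shortExact (K : CochainComplex C ℕ) (j : ℕ) (h : K.ExactAt (j + 1)) :
    (cyclesSeq K j).ShortExact where
  exact := by
    refine ShortComplex.exact_of_f_is_kernel _ ?_
    exact isKernelOfComp (f := K.toCycles j (j + 1)) (K.iCycles (j + 1)) (K.d j (j + 1))
      (K.cyclesIsKernel j (j + 1) (by simp)) (cyclesSeq K j).zero (toCycles_i K j (j + 1))
  mono_f := inferInstance
  epi_g := by
    rw [exactAt_iff' K j (j + 1) (j + 2) (by simp) (by simp),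
      ShortComplex.exact_iff_epi_toCycles] at h
    dsimp
    have h' : Epi (K.toCycles j (j + 1) ≫
        (K.cyclesIsoSc' j (j + 1) (j + 2) (by simp) (by simp)).hom) := by
      rw [toCycles_cyclesIsoSc'_hom]
      exact h
    rw [show K.toCycles j (j + 1) = (K.toCycles j (j + 1) ≫
      (K.cyclesIsoSc' j (j + 1) (j + 2) (by simp) (by simp)).hom) ≫
      (K.cyclesIsoSc' j (j + 1) (j + 2) (by simp) (by simp)).inv by rw [Category.assoc, Iso.hom_inv_id, Category.comp_id]]
    exact epi_comp' h' inferInstance

/-- `R^{n+1} F` vanishes on a class of objects stable under cokernels in injectives on which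
`F` is right exact. -/
theorem isZero_rightDerived_obj_of_class [HasInjectiveResolutions C] (F : C ⥤ D) [F.Additive]
    [PreservesFiniteLimits F] (P : C → Prop) (hiso : ∀ {A B : C}, (A ≅ B) → P A → P B)
    (hcoker : ∀ {T : ShortComplex C}, T.ShortExact → P T.X₁ → Injective T.X₂ → P T.X₃)
    (hepi : ∀ {T : ShortComplex C}, T.ShortExact → P T.X₁ → Epi (F.map T.g))
    {A : C} (hA : P A) (n : ℕ) : IsZero ((F.rightDerived (n + 1)).obj A) := by
  let I : InjectiveResolution A := Classical.choice (HasInjectiveResolution.out)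
  let K := I.cocomplex
  have hK : ∀ j, (cyclesSeq K j).ShortExact := fun j =>
    cyclesSeq_shortExact K j (I.cocomplex_exactAt_succ j)
  have h0 : P (K.cycles 0) :=
    hiso (I.isLimitKernelFork.conePointUniqueUpToIso (K.cyclesIsKernel 0 1 (by simp))) hA
  have hP : ∀ j, P (K.cycles j) := fun j => by
    induction j with
    | zero => exact h0
    | succ j ih => exact hcoker (hK j) ih (I.injective j)
  refine IsZero.of_iso ?_ (I.isoRightDerivedObj F (n + 1))
  refine (exactAt_iff_isZero_homology _ _).1 ?_
  rw [exactAt_iff' _ n (n + 1) (n + 2) (by simp) (by simp)]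
  have he : Epi (F.map (K.toCycles n (n + 1))) := hepi (hK n) (hP n)
  have hz : F.map (K.iCycles (n + 1)) ≫ F.map (K.d (n + 1) (n + 2)) = 0 := by
    rw [← F.map_comp, iCycles_d, F.map_zero]
  let T : ShortComplex D := ShortComplex.mk _ _ hz
  have hT : T.Exact := ShortComplex.exact_of_f_is_kernel _
    (KernelFork.mapIsLimit _ (K.cyclesIsKernel (n + 1) (n + 2) (by simp)) F)
  let φ : ((F.mapHomologicalComplex (ComplexShape.up ℕ)).obj K).sc' n (n + 1) (n + 2) ⟶ T :=
    { τ₁ := F.map (K.toCycles n (n + 1))
      τ₂ := 𝟙 (F.obj (K.X (n + 1)))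
      τ₃ := 𝟙 (F.obj (K.X (n + 2)))
      comm₁₂ := (F.map_comp _ _).symm.trans
        ((congrArg F.map (toCycles_i K n (n + 1))).trans (Category.comp_id _).symm)
      comm₂₃ := (Category.id_comp _).trans (Category.comp_id _).symm }
  have : Epi φ.τ₁ := he
  have : IsIso φ.τ₂ := inferInstanceAs (IsIso (𝟙 (F.obj (K.X (n + 1)))))
  have : Mono φ.τ₃ := inferInstanceAs (Mono (𝟙 (F.obj (K.X (n + 2)))))
  exact (ShortComplex.exact_iff_of_epi_of_isIso_of_mono φ).2 hT

end Groth.Agent.QCohBase
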