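import Groth.Agent.QCohBase.Criterion
import Groth.Agent.QCohBase.Derived
import Mathlib.Topology.Sheaves.Functors
import Mathlib.CategoryTheory.Limits.Preserves.Finite

/-!
# Direct images and cohomology
-/

noncomputable section

universe u

open CategoryTheory Limits TopologicalSpace Opposite

namespace Groth.Agent.QCohBase

variable {X Y : TopCat.{u}}

/-- Direct image of abelian sheaves. -/
abbrev pushSh (f : X ⟶ Y) : AbSheaf X ⥤ AbSheaf Y :=
  TopCat.Sheaf.pushforward AddCommGrpCat.{u} f

instance (f : X ⟶ Y) : (pushSh f).IsRightAdjoint :=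
  (TopCat.Sheaf.pullbackPushforwardAdjunction AddCommGrpCat.{u} f).isRightAdjoint

instance (f : X ⟶ Y) : (pushSh f).Additive where

instance (f : X ⟶ Y) : PreservesFiniteLimits (pushSh f) :=
  have : PreservesLimitsOfSize.{0, 0} (pushSh f) :=
    (Adjunction.ofIsRightAdjoint (pushSh f)).rightAdjoint_preservesLimits
  PreservesLimits.preservesFiniteLimits _

/-- The Cech complex of a direct image is that of the sheaf on the preimages. -/
lemma cechAcyclic_push (f : X ⟶ Y) (F : AbSheaf X) {ι : Type u} (V : ι → Opens Y)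
    (h : CechAcyclic (fun k => (Opens.map f).obj (V k)) F.obj) :
    CechAcyclic V ((pushSh f).obj F).obj := by
  intro p
  rw [exactAt_succ_iff]
  have he : ∀ {n : ℕ} (i : Fin (n + 1) → ι),
      inter (fun k => (Opens.map f).obj (V k)) i = (Opens.map f).obj (inter V i) := fun i => by
    ext x
    exact (mem_inter_iff _ i x).trans (mem_inter_iff V i (f x)).symm
  intro s hs
  have hs' : dCech (fun k => (Opens.map f).obj (V k)) F.obj (p + 1)
      (fun i => res F.obj (he i).le (s i)) = 0 := by
    funext i
    have h1 := congrArg (res F.obj (he i).le) (congrFun hs i)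
    have h1' := (map_sum (res F.obj (he i).le) _ Finset.univ).symm.trans (h1.trans (map_zero _))
    refine Eq.trans ?_ h1'
    refine Finset.sum_congr rfl fun k _ => ?_
    refine Eq.trans ?_ (map_zsmul (res F.obj (he i).le) _ _).symm
    exact congrArg _ ((res_res F.obj _ _ _).trans (res_res F.obj _ _ _).symm)
  obtain ⟨t, ht⟩ := (exactAt_succ_iff _ _ _).1 (h p) _ hs'
  refine ⟨fun i => res F.obj (he i).ge (t i), funext fun i => ?_⟩
  have h2 := congrArg (res F.obj (he i).ge) (congrFun ht i)
  refine Eq.trans ?_ (h2.trans ((res_res F.obj _ _ _).trans (res_refl F.obj _ _)))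
  refine Eq.trans ?_ (map_sum (res F.obj (he i).ge) _ Finset.univ).symm
  refine Finset.sum_congr rfl fun k _ => ?_
  refine Eq.trans ?_ (map_zsmul (res F.obj (he i).ge) _ _).symm
  exact congrArg _ ((res_res F.obj _ _ _).trans (res_res F.obj _ _ _).symm)

/-- All opens with all covers. -/
def CovSystem.univ (X : TopCat.{u}) : CovSystem X where
  B _ := True
  Cov U {_} V := ⨆ k, V k = U
  cov_eq h := h
  inter_mem _ _ _ := trivial
  refine' := fun {U} _ {κ} W hW => ⟨κ, fun k => W k ⊓ U, id,
    le_antisymm (iSup_le fun _ => inf_le_right) (fun x hx => by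
      obtain ⟨k, hk⟩ := Opens.mem_iSup.1 (hW hx)
      exact Opens.mem_iSup.2 ⟨k, hk, hx⟩), fun _ => inf_le_left⟩

lemma subsingleton_H_push_injective (f : X ⟶ Y) (I : AbSheaf X) [Injective I] (n : ℕ) :
    Subsingleton (CovSystem.HTop ((pushSh f).obj I) (n + 1)) :=
  CovSystem.subsingleton_H (S := CovSystem.univ Y) trivial
    (fun _ _ => cechAcyclic_push f I _ (cechAcyclic_of_injective _ I)) n

lemma isLocallySurjective_of_basis {F G : AbSheaf Y} (g : F ⟶ G) (B : Set (Opens Y))
    (hB : Opens.IsBasis B) (h : ∀ V ∈ B, Function.Surjective (g.hom.app (op V))) : Epi g := by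
  refine (CategoryTheory.Sheaf.isLocallySurjective_iff_epi' (φ := g)).1 ?_
  refine (TopCat.Presheaf.isLocallySurjective_iff g.hom).2 fun U t x hx => ?_
  obtain ⟨V, hV, hxV, hVU⟩ := Opens.isBasis_iff_nbhd.1 hB hx
  exact ⟨V, hVU, h V hV _, hxV⟩

lemma shortExact_push (f : X ⟶ Y) {T : ShortComplex (AbSheaf X)} (hT : T.ShortExact)
    (h : Epi ((pushSh f).map T.g)) : (T.map (pushSh f)).ShortExact := by
  have := hT.mono_f
  exact
    { exact := ShortComplex.exact_of_f_is_kernel _
        (KernelFork.mapIsLimit _ hT.fIsKernel (pushSh f))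
      mono_f := inferInstanceAs (Mono ((pushSh f).map T.f))
      epi_g := h }

namespace CovSystem

variable {S : CovSystem X}

/-- Cohomology of an acyclic sheaf is that of its direct image along a map under which
preimages of a basis are in `B`. -/
theorem nonempty_H_push_equiv (f : X ⟶ Y) (B : Set (Opens Y)) (hB : Opens.IsBasis B)
    (hpre : ∀ V ∈ B, S.B ((Opens.map f).obj V)) {F : AbSheaf X} (hF : S.Acyclic F) (p : ℕ) :
    Nonempty (HTop F p ≃+ HTop ((pushSh f).obj F) p) := by
  induction p generalizing F with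
  | zero => exact ⟨(hZero F).trans (hZero ((pushSh f).obj F)).symm⟩
  | succ p ih =>
    have hT := injSeq_shortExact F
    have hepi : Epi ((pushSh f).map (injSeq F).g) :=
      isLocallySurjective_of_basis _ B hB fun V hV => sections_surjective hT hF (hpre V hV)
    have hT' := shortExact_push f hT hepi
    have hz : ∀ n, Subsingleton (HTop ((pushSh f).obj (injSeq F).X₂) (n + 1)) :=
      subsingleton_H_push_injective f _
    have hsurj : ∀ n, Function.Surjective (hDelta hT' n) := fun n x => by
      obtain ⟨y, hy⟩ := Abelian.Ext.covariant_sequence_exact₁ _ hT' x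
        ((hz n).elim _ _) rfl
      exact ⟨y, hy⟩
    cases p with
    | succ q =>
      obtain ⟨e⟩ := ih (acyclic_cokernel hT hF)
      have hinj : Function.Injective (hDelta hT' (q + 1)) := by
        refine (injective_iff_map_eq_zero _).2 fun x hx => ?_
        obtain ⟨y, hy⟩ := Abelian.Ext.covariant_sequence_exact₃ _ hT' x rfl hx
        obtain rfl : y = 0 := (hz q).elim y 0
        exact hy.symm.trans (Abelian.Ext.zero_comp _ _ _ _ _)
      exact ⟨(AddEquiv.ofBijective (hDelta hT (q + 1))
          ⟨hDelta_injective hT q, hDelta_surjective hT (q + 1)⟩).symm.trans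
        (e.trans (AddEquiv.ofBijective (hDelta hT' (q + 1)) ⟨hinj, hsurj (q + 1)⟩))⟩
    | zero =>
      let ψ₁ : (injSeq F).X₃.obj.obj (op ⊤) →+ HTop F 1 :=
        (hDelta hT 0).comp (hZero _).symm.toAddMonoidHom
      let ψ₂ : (injSeq F).X₃.obj.obj (op ⊤) →+ HTop ((pushSh f).obj F) 1 :=
        (hDelta hT' 0).comp (hZero ((pushSh f).obj (injSeq F).X₃)).symm.toAddMonoidHom
      have hψ₁ : Function.Surjective ψ₁ := (hDelta_surjective hT 0).comp (hZero _).symm.surjective
      have hψ₂ : Function.Surjective ψ₂ := (hsurj 0).comp (hZero _).symm.surjective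
      have hker : ψ₁.ker = ψ₂.ker := by
        ext s
        rw [AddMonoidHom.mem_ker, AddMonoidHom.mem_ker]
        exact (hDelta_zero_iff hT s).trans (hDelta_zero_iff hT' s).symm
      exact ⟨((QuotientAddGroup.quotientKerEquivOfSurjective ψ₁ hψ₁).symm.trans
        (QuotientAddGroup.quotientAddEquivOfEq hker)).trans
        (QuotientAddGroup.quotientKerEquivOfSurjective ψ₂ hψ₂)⟩

/-- Higher direct images of an acyclic sheaf vanish. -/
theorem isZero_rightDerived_push (f : X ⟶ Y) (B : Set (Opens Y)) (hB : Opens.IsBasis B)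
    (hpre : ∀ V ∈ B, S.B ((Opens.map f).obj V)) {F : AbSheaf X} (hF : S.Acyclic F) (n : ℕ) :
    IsZero (((pushSh f).rightDerived (n + 1)).obj F) := by
  refine isZero_rightDerived_obj_of_class (pushSh f) S.Acyclic ?_ ?_ ?_ hF n
  · intro A A' e hA U ι V hU hV p
    exact (hA hU hV p).of_iso ((cechSheafFunctor V).mapIso e)
  · exact fun hT h₁ _ => acyclic_cokernel hT h₁
  · exact fun hT h₁ =>
      isLocallySurjective_of_basis _ B hB fun V hV => sections_surjective hT h₁ (hpre V hV)

end CovSystem

end Groth.Agent.QCohBase
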