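import Mathlib.Data.Fintype.Lattice
import Mathlib.AlgebraicTopology.AlternatingFaceMapComplex
import Mathlib.Algebra.Category.Grp.Abelian
import Mathlib.Algebra.Category.Grp.FilteredColimits
import Mathlib.Algebra.Homology.HomologySequence
import Mathlib.Algebra.Homology.ShortComplex.Ab
import Mathlib.Topology.Sheaves.Abelian
import Mathlib.Topology.Sheaves.AddCommGrpCat
import Mathlib.Topology.Sheaves.Stalks
import Mathlib.Topology.Sheaves.LocallySurjective
import Mathlib.Topology.Sheaves.SheafOfFunctions

/-!
# Cech complexes of presheaves of abelian groups, in concrete form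
-/

noncomputable section

universe u

open CategoryTheory Limits TopologicalSpace Opposite AlgebraicTopology Simplicial

namespace Groth.Agent.QCohBase

/-- Abelian sheaves on a topological space. -/
abbrev AbSheaf (X : TopCat.{u}) :=
  CategoryTheory.Sheaf (Opens.grothendieckTopology X) AddCommGrpCat.{u}

variable {X : TopCat.{u}} {ι : Type u} (U : ι → Opens X)

/-- Intersection of a tuple of opens. -/
abbrev inter {α : Type} (i : α → ι) : Opens X := ⨅ a, U (i a)

lemma inter_comp_le {α β : Type} (i : α → ι) (φ : β → α) : inter U i ≤ inter U (i ∘ φ) :=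
  le_iInf fun b => iInf_le (fun a => U (i a)) (φ b)

lemma mem_inter_iff {α : Type} [Finite α] (i : α → ι) (x : X) :
    x ∈ inter U i ↔ ∀ a, x ∈ U (i a) := by
  refine ⟨fun h a => (iInf_le (fun b => U (i b)) a : inter U i ≤ _) h, fun h => ?_⟩
  cases nonempty_fintype α
  rw [inter, ← Finset.inf_univ_eq_iInf, ← SetLike.mem_coe, Opens.coe_finset_inf]
  simp only [Finset.inf_set_eq_iInter, Set.mem_iInter]
  exact fun a _ => h a

variable (P : TopCat.Presheaf AddCommGrpCat.{u} X)

/-- Restriction of sections as an additive map. -/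
abbrev res {V W : Opens X} (h : W ≤ V) : P.obj (op V) →+ P.obj (op W) :=
  (P.map (homOfLE h).op).hom

lemma res_res {V₁ V₂ V₃ : Opens X} (h : V₂ ≤ V₁) (h' : V₃ ≤ V₂) (s : P.obj (op V₁)) :
    res P h' (res P h s) = res P (h'.trans h) s := by
  rw [res, res, res, ← ConcreteCategory.comp_apply, ← Functor.map_comp]
  rfl

@[simp]
lemma res_refl {V : Opens X} (h : V ≤ V) (s : P.obj (op V)) : res P h s = s := by
  rw [res, show (homOfLE h).op = 𝟙 (op V) from rfl, P.map_id]
  rfl

lemma nat_res {Q : TopCat.Presheaf AddCommGrpCat.{u} X} (f : P ⟶ Q) {V W : Opens X} (h : W ≤ V)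
    (s : P.obj (op V)) : res Q h (f.app (op V) s) = f.app (op W) (res P h s) := by
  exact (ConcreteCategory.congr_hom (f.naturality (homOfLE h).op) s).symm

/-- Cech cochains with values in `P`, indexed by tuples `α → ι`. -/
abbrev cochain (α : Type) : Type u := ∀ i : α → ι, P.obj (op (inter U i))

/-- Pullback of cochains along a map of index types. -/
def cochainMap {α β : Type} (φ : β → α) : cochain U P β →+ cochain U P α where
  toFun s i := res P (inter_comp_le U i φ) (s (i ∘ φ))
  map_zero' := by ext i; simp
  map_add' s t := by ext i; simp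

@[simp]
lemma cochainMap_apply {α β : Type} (φ : β → α) (s : cochain U P β) (i : α → ι) :
    cochainMap U P φ s i = res P (inter_comp_le U i φ) (s (i ∘ φ)) := rfl

/-- The cosimplicial abelian group of Cech cochains. -/
def cechCosimp : CosimplicialObject AddCommGrpCat.{u} where
  obj n := AddCommGrpCat.of (cochain U P (Fin (n.len + 1)))
  map {m n} f := AddCommGrpCat.ofHom (cochainMap U P f.toOrderHom)
  map_id n := by
    refine AddCommGrpCat.ext fun (s : cochain U P (Fin (n.len + 1))) => funext fun i => ?_
    exact res_refl P le_rfl (s i)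
  map_comp {l m n} f g := by
    refine AddCommGrpCat.ext fun (s : cochain U P (Fin (l.len + 1))) => funext fun i => ?_
    exact (res_res P _ _ _).symm

/-- The concrete Cech complex. -/
def cech : CochainComplex AddCommGrpCat.{u} ℕ :=
  (alternatingCofaceMapComplex AddCommGrpCat.{u}).obj (cechCosimp U P)

/-- The differential on Cech cochains. -/
def dCech (p : ℕ) (s : cochain U P (Fin (p + 1))) : cochain U P (Fin (p + 2)) :=
  fun i => ∑ k : Fin (p + 2), (-1 : ℤ) ^ (k : ℕ) •
    res P (inter_comp_le U i k.succAbove) (s (i ∘ k.succAbove))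

lemma cech_d_apply (p : ℕ) (s : cochain U P (Fin (p + 1))) :
    (cech U P).d p (p + 1) s = dCech U P p s := by
  have : (cech U P).d p (p + 1) = AlternatingCofaceMapComplex.objD (cechCosimp U P) p :=
    CochainComplex.of_d (d := AlternatingCofaceMapComplex.objD (cechCosimp U P)) _ p
  rw [this]
  funext i
  let E : ((cechCosimp U P).obj ⦋p⦌ ⟶ (cechCosimp U P).obj ⦋p + 1⦌) →+
      P.obj (op (inter U i)) :=
    { toFun := fun f => f.hom s i
      map_zero' := rfl
      map_add' := fun _ _ => rfl }
  refine Eq.trans (map_sum E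
    (fun k : Fin (p + 2) => (-1 : ℤ) ^ (k : ℕ) • (cechCosimp U P).δ (n := p) k) Finset.univ) ?_
  exact Finset.sum_congr rfl fun k _ => map_zsmul E _ _

/-- Elementwise exactness of the Cech complex in degree `p + 1`. -/
def ExactAtSucc (p : ℕ) : Prop :=
  ∀ s : cochain U P (Fin (p + 2)), dCech U P (p + 1) s = 0 → ∃ t, dCech U P p t = s

lemma exactAt_succ_iff (p : ℕ) :
    (cech U P).ExactAt (p + 1) ↔ ExactAtSucc U P p := by
  rw [HomologicalComplex.exactAt_iff' (cech U P) p (p + 1) (p + 2) (by simp) (by simp),
    ShortComplex.ab_exact_iff]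
  simp only [ExactAtSucc, ← cech_d_apply]
  rfl

/-- The Cech complex is exact in all positive degrees. -/
def CechAcyclic : Prop := ∀ p, (cech U P).ExactAt (p + 1)

lemma dCech_cons_aux {p : ℕ} (s : cochain U P (Fin (p + 2))) (hs : dCech U P (p + 1) s = 0)
    (j : ι) (i : Fin (p + 2) → ι) {W : Opens X} (hW : W ≤ inter U i)
    (hW' : W ≤ U j) :
    res P hW (s i) =
      ∑ k : Fin (p + 2), (-1 : ℤ) ^ (k : ℕ) •
        res P (show W ≤ inter U (Fin.cons j (i ∘ k.succAbove) : Fin (p + 2) → ι) from
          le_iInf fun a => by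
            induction a using Fin.cases with
            | zero => simpa using hW'
            | succ a => simpa using hW.trans (iInf_le _ _))
          (s (Fin.cons j (i ∘ k.succAbove))) := by
  let c : Fin (p + 3) → ι := Fin.cons j i
  have hc : W ≤ inter U c := le_iInf fun a => by
    induction a using Fin.cases with
    | zero => simpa [c] using hW'
    | succ a => simpa [c] using hW.trans (iInf_le _ _)
  have h := congrArg (res P hc) (congrFun hs c)
  simp only [dCech, map_sum, map_zsmul, res_res, Pi.zero_apply, map_zero] at h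
  rw [Fin.sum_univ_succ] at h
  have hfst : ∀ (i' : Fin (p + 2) → ι) (e : i' = i) (h' : W ≤ inter U i'),
      res P h' (s i') = res P hW (s i) := by rintro i' rfl _; rfl
  rw [hfst _ (by ext a; simp [c])] at h
  simp only [Fin.val_zero, pow_zero, one_smul, Fin.val_succ] at h
  rw [eq_neg_of_add_eq_zero_left h, ← Finset.sum_neg_distrib]
  refine Finset.sum_congr rfl fun k _ => ?_
  have : ∀ (a b : Fin (p + 2) → ι) (e : a = b) (ha : W ≤ inter U a),
      res P ha (s a) = res P (e ▸ ha) (s b) := by rintro a b rfl _; rfl
  rw [this _ (Fin.cons j (i ∘ k.succAbove)) (by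
    ext a
    induction a using Fin.cases with
    | zero => simp [c]
    | succ a => simp [c])]
  rw [pow_succ, mul_neg_one, neg_smul, neg_neg]

section Godement

variable (A : X → AddCommGrpCat.{u})

/-- The presheaf of arbitrary families of elements of `A x`. -/
def piPresheaf : TopCat.Presheaf AddCommGrpCat.{u} X where
  obj V := AddCommGrpCat.of (∀ x : V.unop, A x.1)
  map {_ _} f := AddCommGrpCat.ofHom
    { toFun := fun s x => s ⟨x.1, f.unop.le x.2⟩
      map_zero' := rfl
      map_add' := fun _ _ => rfl }
  map_id _ := rfl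
  map_comp _ _ := rfl

/-- The sheaf of arbitrary families of elements of `A x`. -/
def piSheaf : AbSheaf X :=
  ⟨piPresheaf A, (TopCat.Presheaf.isSheaf_iff_isSheaf_comp (forget AddCommGrpCat) _).2
    (TopCat.Presheaf.toTypes_isSheaf X fun x => (A x : Type u))⟩

lemma cechAcyclic_pi : CechAcyclic U (piPresheaf A) := by
  classical
  intro p
  rw [exactAt_succ_iff]
  intro s hs
  refine ⟨fun i x =>
    if hj : ∃ j, x.1 ∈ U j then
      s (Fin.cons hj.choose i) ⟨x.1, ?_⟩
    else 0, ?_⟩
  · refine (mem_inter_iff U _ _).2 fun a => ?_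
    induction a using Fin.cases with
    | zero => simpa using hj.choose_spec
    | succ a => simpa using (mem_inter_iff U i x.1).1 x.2 a
  · funext i
    funext x
    have hj : ∃ j, x.1 ∈ U j :=
      ⟨i 0, (iInf_le (fun b => U (i b)) 0 : inter U i ≤ _) x.2⟩
    simp only [dCech]
    have hsum : ∀ (f : Fin (p + 2) → (piPresheaf A).obj (op (inter U i))),
        (∑ k, f k : (piPresheaf A).obj (op (inter U i))) x = ∑ k, f k x :=
      fun f => Finset.sum_apply x Finset.univ f
    let W : Opens X := inter U i ⊓ U hj.choose
    have hxW : x.1 ∈ W := ⟨x.2, hj.choose_spec⟩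
    have key := congrFun (dCech_cons_aux U (piPresheaf A) s hs hj.choose i
      (W := W) inf_le_left inf_le_right) ⟨x.1, hxW⟩
    have hsumW : ∀ (f : Fin (p + 2) → (piPresheaf A).obj (op W)),
        (∑ k, f k : (piPresheaf A).obj (op W)) ⟨x.1, hxW⟩ = ∑ k, f k ⟨x.1, hxW⟩ :=
      fun f => Finset.sum_apply (⟨x.1, hxW⟩ : W) Finset.univ f
    rw [hsumW] at key
    rw [hsum]
    refine Eq.trans ?_ key.symm
    refine Finset.sum_congr rfl fun k _ => ?_
    refine congrArg (fun z : (A x.1 : Type u) => (-1 : ℤ) ^ (k : ℕ) • z) ?_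
    exact dif_pos hj

/-- The unit map to the sheaf of families of germs. -/
def toGodement (F : AbSheaf X) :
    F ⟶ piSheaf fun x => TopCat.Presheaf.stalk F.obj x :=
  ⟨{ app := fun V => AddCommGrpCat.ofHom
      { toFun := fun s x => TopCat.Presheaf.germ F.obj V.unop x.1 x.2 s
        map_zero' := funext fun _ => map_zero _
        map_add' := fun _ _ => funext fun _ => map_add _ _ _ }
     naturality := by
      intro V W f
      refine AddCommGrpCat.ext fun s => funext fun x => ?_
      exact TopCat.Presheaf.germ_res_apply F.obj f.unop x.1 x.2 s }⟩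

instance (F : AbSheaf X) : Mono (toGodement F) := by
  have : ∀ V, Mono ((toGodement F).hom.app V) := fun V => by
    refine (AddCommGrpCat.mono_iff_injective _).2 fun s t h => ?_
    exact TopCat.Presheaf.section_ext F V.unop s t fun x hx => congrFun h ⟨x, hx⟩
  have : Mono (toGodement F).hom := NatTrans.mono_of_mono_app _
  exact (sheafToPresheaf _ _).mono_of_mono_map this

end Godement

/-- The Cech complex as a functor of the presheaf. -/
def cechFunctor : ((Opens X)ᵒᵖ ⥤ AddCommGrpCat.{u}) ⥤ CochainComplex AddCommGrpCat.{u} ℕ where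
  obj P := cech U P
  map {P Q} f := (alternatingCofaceMapComplex AddCommGrpCat.{u}).map
    { app := fun n => AddCommGrpCat.ofHom
        { toFun := fun s i => f.app _ (s i)
          map_zero' := funext fun _ => map_zero _
          map_add' := fun _ _ => funext fun _ => map_add _ _ _ }
      naturality := by
        intro m n g
        refine AddCommGrpCat.ext fun (s : cochain U P (Fin (m.len + 1))) => funext fun i => ?_
        exact (nat_res P f (inter_comp_le U i g.toOrderHom) (s (i ∘ g.toOrderHom))).symm }
  map_id P := by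
    refine HomologicalComplex.hom_ext _ _ fun n => ?_
    exact AddCommGrpCat.ext fun s => rfl
  map_comp f g := by
    refine HomologicalComplex.hom_ext _ _ fun n => ?_
    exact AddCommGrpCat.ext fun s => rfl

/-- The Cech complex as a functor of the sheaf. -/
abbrev cechSheafFunctor : AbSheaf X ⥤ CochainComplex AddCommGrpCat.{u} ℕ :=
  sheafToPresheaf (Opens.grothendieckTopology X) AddCommGrpCat.{u} ⋙ cechFunctor U

lemma cechAcyclic_of_injective (I : AbSheaf X) [Injective I] :
    CechAcyclic U I.obj := by
  intro p
  have h := cechAcyclic_pi U (fun x => TopCat.Presheaf.stalk I.obj x) p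
  let ρ : (piSheaf fun x => TopCat.Presheaf.stalk I.obj x) ⟶ I := Injective.factorThru (𝟙 I) (toGodement I)
  let rt : Retract (cech U I.obj) (cech U (piPresheaf fun x => TopCat.Presheaf.stalk I.obj x)) :=
    { i := (cechSheafFunctor U).map (toGodement I)
      r := (cechSheafFunctor U).map ρ
      retract := by
        exact ((cechSheafFunctor U).map_comp _ _).symm.trans
          ((congrArg (cechSheafFunctor U).map (Injective.comp_factorThru (𝟙 I) (toGodement I))).trans
            ((cechSheafFunctor U).map_id I)) }
  rw [HomologicalComplex.exactAt_iff_isZero_homology] at h ⊢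
  let rt' := rt.map (HomologicalComplex.homologyFunctor AddCommGrpCat.{u} (ComplexShape.up ℕ) (p + 1))
  exact @IsZero.of_mono _ _ _ _ _ rt'.i (SplitMono.mono ⟨rt'.r, rt'.retract⟩) h

end Groth.Agent.QCohBase
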