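import Mathlib.Algebra.Homology.HomologicalComplexAbelian
import Mathlib.Algebra.Homology.DerivedCategory.Ext.ExactSequences
import Mathlib.CategoryTheory.Sites.SheafCohomology.Basic
import Mathlib.CategoryTheory.Abelian.GrothendieckCategory.HasExt
import Mathlib.CategoryTheory.Abelian.GrothendieckAxioms.Sheaf
import Mathlib.Algebra.Category.Grp.AB
import Mathlib.Algebra.Category.Grp.Ulift
import Mathlib.Topology.Sheaves.Flasque
import Mathlib.GroupTheory.QuotientGroup.Basic
import Groth.Prelude.Def_SiteColimFix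
import Groth.Agent.QCohBase.Cech

/-!
# Cartan's criterion: Cech acyclicity on a basis implies vanishing of cohomology,
and Cech cohomology of a cover with acyclic intersections is cohomology.
-/

noncomputable section

universe u

open CategoryTheory Limits TopologicalSpace Opposite HomologicalComplex

namespace Groth.Agent.QCohBase

variable {X : TopCat.{u}}

instance grothendieckAbelianTopSheaf (X : TopCat.{u}) :
    IsGrothendieckAbelian.{u} (CategoryTheory.Sheaf (Opens.grothendieckTopology X) AddCommGrpCat.{u}) :=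
  CategoryTheory.Sheaf.isGrothendieckAbelian_of_essentiallySmall _ _

/-- A collection of opens, each equipped with a collection of admissible covers which refine
every cover and whose intersections stay in the collection. -/
structure CovSystem (X : TopCat.{u}) where
  B : Opens X → Prop
  Cov : ∀ (_ : Opens X) {ι : Type u}, (ι → Opens X) → Prop
  cov_eq : ∀ {U : Opens X} {ι : Type u} {V : ι → Opens X}, Cov U V → ⨆ k, V k = U
  inter_mem : ∀ {U : Opens X} {ι : Type u} {V : ι → Opens X}, Cov U V →
    ∀ (n : ℕ) (i : Fin (n + 1) → ι), B (inter V i)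
  refine' : ∀ {U : Opens X}, B U → ∀ {κ : Type u} (W : κ → Opens X), U ≤ ⨆ k, W k →
    ∃ (ι : Type u) (V : ι → Opens X) (r : ι → κ), Cov U V ∧ ∀ k, V k ≤ W (r k)

/-- A sheaf is acyclic for a covering system if all admissible Cech complexes are exact
in positive degrees. -/
def CovSystem.Acyclic (S : CovSystem X) (F : AbSheaf X) : Prop :=
  ∀ {U : Opens X} {ι : Type u} {V : ι → Opens X}, S.B U → S.Cov U V → CechAcyclic V F.obj

section

variable {ι : Type u} (V : ι → Opens X) {P Q : (Opens X)ᵒᵖ ⥤ AddCommGrpCat.{u}}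

lemma cechFunctor_map_apply (f : P ⟶ Q) (n : ℕ) (s : cochain V P (Fin (n + 1)))
    (i : Fin (n + 1) → ι) :
    ((cechFunctor V).map f).f n s i = f.app _ (s i) := rfl

lemma dCech_map (f : P ⟶ Q) (n : ℕ) (s : cochain V P (Fin (n + 1))) :
    dCech V Q n (fun i => f.app _ (s i)) = fun i => f.app _ (dCech V P n s i) := by
  funext i
  simp only [dCech, map_sum, map_zsmul, nat_res P f]

lemma dCech_dCech (n : ℕ) (s : cochain V P (Fin (n + 1))) :
    dCech V P (n + 1) (dCech V P n s) = 0 := by
  have h := ConcreteCategory.congr_hom ((cech V P).d_comp_d n (n + 1) (n + 2)) s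
  exact ((cech_d_apply V P (n + 1) _).symm.trans (congrArg _ (cech_d_apply V P n s).symm)).trans h

lemma dCech_zero_apply (s : cochain V P (Fin 1)) (i : Fin 2 → ι) :
    dCech V P 0 s i = res P (inter_comp_le V i (Fin.succAbove 0)) (s (i ∘ Fin.succAbove 0)) -
      res P (inter_comp_le V i (Fin.succAbove 1)) (s (i ∘ Fin.succAbove 1)) := by
  simp only [dCech]
  exact (Fin.sum_univ_two (M := P.obj (op (inter V i))) _).trans (by simp [sub_eq_add_neg])

/-- A Cech 0-cocycle glues. -/
lemma cocycle_zero_glue (F : AbSheaf X) {U : Opens X} (hcov : ⨆ k, V k = U)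
    (u : cochain V F.obj (Fin 1)) (hu : dCech V F.obj 0 u = 0) :
    ∃ v : F.obj.obj (op U), ∀ (i : Fin 1 → ι) (h : inter V i ≤ U), res F.obj h v = u i := by
  have hk : ∀ k : ι, V k ≤ inter V (fun _ : Fin 1 => k) := fun k => le_iInf fun _ => le_rfl
  let sf : ∀ k, F.obj.obj (op (V k)) := fun k => res F.obj (hk k) (u _)
  have hfst : ∀ (a b : ι) (i' : Fin 1 → ι) (k : ι) (e : i' = fun _ => k)
      (h' : V a ⊓ V b ≤ inter V i') (h'' : V a ⊓ V b ≤ V k),
      res F.obj h' (u i') = res F.obj h'' (sf k) := by
    rintro a b _ k rfl _ _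
    exact (res_res F.obj _ _ _).symm
  have hcompat : TopCat.Presheaf.IsCompatible F.obj V sf := by
    intro a b
    have hab : V a ⊓ V b ≤ inter V ![a, b] :=
      le_iInf <| Fin.forall_fin_two.2 ⟨inf_le_left, inf_le_right⟩
    have h := congrArg (res F.obj hab) (congrFun hu ![a, b])
    rw [dCech_zero_apply, map_sub, res_res, res_res, Pi.zero_apply, map_zero,
      hfst a b _ b (funext fun j => by fin_cases j; rfl) _ inf_le_right,
      hfst a b _ a (funext fun j => by fin_cases j; rfl) _ inf_le_left, sub_eq_zero] at h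
    exact h.symm
  have hVU : ∀ k, V k ≤ U := fun k => (le_iSup V k).trans hcov.le
  obtain ⟨v, hv, -⟩ := TopCat.Sheaf.existsUnique_gluing' F V U (fun k => homOfLE (hVU k))
    hcov.ge sf hcompat
  refine ⟨v, fun i h => ?_⟩
  obtain ⟨k, rfl⟩ : ∃ k, i = fun _ : Fin 1 => k := ⟨i 0, funext fun j => by fin_cases j; rfl⟩
  have h1 := congrArg (res F.obj (iInf_le (fun _ : Fin 1 => V k) 0)) (hv k)
  exact ((res_res F.obj _ _ _).symm.trans h1).trans ((res_res F.obj _ _ _).trans (res_refl _ _ _))

instance : (cechFunctor V).Additive where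
  map_add {P Q f g} := by
    refine HomologicalComplex.hom_ext _ _ fun n => ?_
    exact AddCommGrpCat.ext fun _ => rfl

instance : (cechSheafFunctor V).Additive := Functor.instAdditiveComp _ _

end

namespace CovSystem

variable {S : CovSystem X} {T : ShortComplex (AbSheaf X)}

lemma app_injective_of_mono {F G : AbSheaf X} (f : F ⟶ G) [Mono f]
    (W : Opens X) : Function.Injective (f.hom.app (op W)) := by
  have : Mono ((sheafToPresheaf (Opens.grothendieckTopology X) AddCommGrpCat.{u}).map f) := inferInstance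
  exact (AddCommGrpCat.mono_iff_injective _).1
    (NatTrans.mono_iff_mono_app ((sheafToPresheaf (Opens.grothendieckTopology X) AddCommGrpCat.{u}).map f) |>.1 this (op W))

/-- If the kernel is acyclic, a short exact sequence is exact on sections over members of `B`. -/
lemma sections_surjective (hT : T.ShortExact) (h₁ : S.Acyclic T.X₁) {U : Opens X} (hU : S.B U) :
    Function.Surjective (T.g.hom.app (op U)) := by
  intro s
  have := (TopCat.Presheaf.isLocallySurjective_iff T.g.hom).mp
    ((CategoryTheory.Sheaf.isLocallySurjective_iff_epi' (φ := T.g)).mpr hT.epi_g) U s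
  choose W hWU hlift hxW using fun x : U => this x.1 x.2
  choose t ht using hlift
  obtain ⟨ι, V, r, hV, hle⟩ := S.refine' hU (κ := U) W
    (fun x hx => Opens.mem_iSup.2 ⟨⟨x, hx⟩, hxW ⟨x, hx⟩⟩)
  have hle' : ∀ {n : ℕ} (i : Fin (n + 1) → ι) (a : Fin (n + 1)),
      inter V i ≤ W (r (i a)) := fun i a => (iInf_le _ a).trans (hle _)
  let t' : cochain V T.X₂.obj (Fin 1) := fun i => res T.X₂.obj (hle' i 0) (t (r (i 0)))
  have hgt : ∀ i : Fin 1 → ι, T.g.hom.app _ (t' i) =
      res T.X₃.obj ((hle' i 0).trans (hWU _)) s := fun i => by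
    rw [← nat_res T.X₂.obj T.g.hom, ht]
    exact res_res T.X₃.obj _ _ s
  have hg : ∀ i : Fin 2 → ι, T.g.hom.app _ (dCech V T.X₂.obj 0 t' i) = 0 := by
    intro i
    simp only [dCech, map_sum, map_zsmul, ← nat_res T.X₂.obj T.g.hom, hgt, res_res]
    simp [Fin.sum_univ_two]
  choose c hc using fun i : Fin 2 → ι =>
    TopCat.Sheaf.sections_exact_of_left_exact hT.exact hT.mono_f _ (hg i)
  have := hT.mono_f
  have hcz : dCech V T.X₁.obj 1 c = 0 := by
    funext i
    apply app_injective_of_mono T.f
    rw [← congrFun (dCech_map V T.f.hom 1 c) i]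
    refine Eq.trans ?_ (map_zero _).symm
    have hcc : (fun j => T.f.hom.app _ (c j)) = dCech V T.X₂.obj 0 t' := funext hc
    rw [hcc, dCech_dCech]
    rfl
  obtain ⟨b, hb⟩ := (exactAt_succ_iff V T.X₁.obj 0).1 (h₁ hU hV 0) c hcz
  let u : cochain V T.X₂.obj (Fin 1) := fun i => t' i - T.f.hom.app _ (b i)
  have hu : dCech V T.X₂.obj 0 u = 0 := by
    have h1 := congrFun (dCech_map V T.f.hom 0 b)
    funext i
    have : dCech V T.X₂.obj 0 u i = dCech V T.X₂.obj 0 t' i -
        dCech V T.X₂.obj 0 (fun j => T.f.hom.app _ (b j)) i := by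
      simp [dCech, u, smul_sub, Finset.sum_sub_distrib]
    rw [this, h1, hb, hc, sub_self]
    rfl
  have hgu : ∀ i : Fin 1 → ι, T.g.hom.app _ (u i) =
      res T.X₃.obj ((hle' i 0).trans (hWU _)) s := fun i => by
    have : T.g.hom.app _ (T.f.hom.app _ (b i)) = 0 := by
      rw [← ConcreteCategory.comp_apply, ← NatTrans.comp_app,
        ← ObjectProperty.FullSubcategory.comp_hom, T.zero]
      rfl
    simp only [u, map_sub, hgt, this, sub_zero]
  obtain ⟨v, hv⟩ := cocycle_zero_glue V T.X₂ (S.cov_eq hV) u hu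
  have hVU : ∀ k, V k ≤ U := fun k => (le_iSup V k).trans (S.cov_eq hV).le
  refine ⟨v, TopCat.Sheaf.eq_of_locally_eq' T.X₃ V U (fun k => homOfLE (hVU k))
    (S.cov_eq hV).ge _ _ fun k => ?_⟩
  change res T.X₃.obj (hVU k) (T.g.hom.app _ v) = res T.X₃.obj (hVU k) s
  have hk : V k ≤ inter V (fun _ : Fin 1 => k) := le_iInf fun _ => le_rfl
  rw [nat_res T.X₂.obj T.g.hom, ← res_res T.X₂.obj ((iInf_le _ 0).trans (hVU k)) hk v,
    hv, ← nat_res T.X₂.obj T.g.hom, hgu, res_res]

/-- A short exact sequence with acyclic kernel gives short exact sequences of Cech complexes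
for all families with intersections in `B`. -/
lemma cech_shortExact (hT : T.ShortExact) (h₁ : S.Acyclic T.X₁) {ι : Type u} (V : ι → Opens X)
    (hV : ∀ (n : ℕ) (i : Fin (n + 1) → ι), S.B (inter V i)) :
    (T.map (cechSheafFunctor V)).ShortExact := by
  have := hT.mono_f
  refine HomologicalComplex.shortExact_of_degreewise_shortExact _ fun n =>
    { exact := ?_, mono_f := ?_, epi_g := ?_ }
  · rw [ShortComplex.ab_exact_iff]
    intro s hs
    choose t ht using fun i : Fin (n + 1) → ι =>
      TopCat.Sheaf.sections_exact_of_left_exact hT.exact hT.mono_f _ (congrFun hs i)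
    exact ⟨t, funext ht⟩
  · exact (AddCommGrpCat.mono_iff_injective _).2 fun a b h =>
      funext fun i => app_injective_of_mono T.f _ (congrFun h i)
  · refine (AddCommGrpCat.epi_iff_surjective _).2 fun s => ?_
    choose t ht using fun i => sections_surjective hT h₁ (hV n i) (s i)
    exact ⟨t, funext ht⟩

lemma acyclic_cokernel (hT : T.ShortExact) (h₁ : S.Acyclic T.X₁) [Injective T.X₂] :
    S.Acyclic T.X₃ := by
  intro U ι V hU hV p
  have h := cech_shortExact hT h₁ V (S.inter_mem hV)
  rw [exactAt_iff_isZero_homology]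
  refine (h.homology_exact₃ (p + 1) (p + 2) rfl).isZero_of_both_zeros ?_ ?_
  · exact ((exactAt_iff_isZero_homology _ _).1
      (cechAcyclic_of_injective V T.X₂ p)).eq_zero_of_src _
  · exact ((exactAt_iff_isZero_homology _ _).1 (h₁ hU hV (p + 1))).eq_zero_of_tgt _

/-- An injective presentation of a sheaf. -/
abbrev injSeq (F : AbSheaf X) :
    ShortComplex (AbSheaf X) :=
  ShortComplex.mk (Injective.ι F) (cokernel.π (Injective.ι F)) (cokernel.condition _)

instance (F : AbSheaf X) : Injective (injSeq F).X₂ :=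
  inferInstanceAs (Injective (Injective.under F))

lemma injSeq_shortExact (F : AbSheaf X) : (injSeq F).ShortExact where
  exact := ShortComplex.exact_of_g_is_cokernel _ (cokernelIsCokernel _)
  mono_f := inferInstanceAs (Mono (Injective.ι F))
  epi_g := inferInstanceAs (Epi (cokernel.π (Injective.ι F)))

/-- Cohomology on the whole space. -/
abbrev HTop (F : AbSheaf X) (n : ℕ) : Type u :=
  CategoryTheory.Sheaf.H (J := Opens.grothendieckTopology X) F n

/-- Degree zero cohomology is global sections. -/
abbrev hZero (F : AbSheaf X) : HTop F 0 ≃+ F.obj.obj (op ⊤) :=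
  CategoryTheory.Sheaf.H.equiv₀ (J := Opens.grothendieckTopology X) F isTerminalTop

/-- The connecting map. -/
abbrev hDelta (hT : T.ShortExact) (n : ℕ) : HTop T.X₃ n →+ HTop T.X₁ (n + 1) :=
  hT.extClass.postcomp _ rfl

lemma hDelta_surjective (hT : T.ShortExact) [Injective T.X₂] (n : ℕ) :
    Function.Surjective (hDelta hT n) := fun x => by
  obtain ⟨y, hy⟩ := Abelian.Ext.covariant_sequence_exact₁ _ hT x
    (Abelian.Ext.eq_zero_of_injective _) rfl
  exact ⟨y, hy⟩

lemma hDelta_injective (hT : T.ShortExact) [Injective T.X₂] (n : ℕ) :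
    Function.Injective (hDelta hT (n + 1)) := by
  refine (injective_iff_map_eq_zero _).2 fun x hx => ?_
  obtain ⟨y, hy⟩ := Abelian.Ext.covariant_sequence_exact₃ _ hT x rfl hx
  rw [← hy, Abelian.Ext.eq_zero_of_injective y, Abelian.Ext.zero_comp]

lemma hDelta_zero_iff (hT : T.ShortExact) (s : T.X₃.obj.obj (op ⊤)) :
    hDelta hT 0 ((hZero T.X₃).symm s) = 0 ↔ ∃ t, T.g.hom.app (op ⊤) t = s := by
  constructor
  · intro h
    obtain ⟨y, hy⟩ := Abelian.Ext.covariant_sequence_exact₃ _ hT _ rfl h
    exact ⟨hZero T.X₂ y, (CategoryTheory.Sheaf.H.equiv₀_naturality isTerminalTop T.g y).trans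
      ((congrArg (hZero T.X₃) hy).trans ((hZero T.X₃).apply_symm_apply s))⟩
  · rintro ⟨t, rfl⟩
    rw [show (hZero T.X₃).symm (T.g.hom.app (op ⊤) t) = CategoryTheory.Sheaf.H.map T.g 0 ((hZero T.X₂).symm t) from (CategoryTheory.Sheaf.H.equiv₀_symm_naturality isTerminalTop T.g t).symm]
    exact (Abelian.Ext.comp_assoc_of_second_deg_zero _ _ _ _).trans (by
      rw [hT.comp_extClass, Abelian.Ext.comp_zero]; try rfl)

/-- Cartan's criterion. -/
theorem subsingleton_H (hTop : S.B ⊤) {F : AbSheaf X} (hF : S.Acyclic F)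
    (n : ℕ) : Subsingleton (HTop F (n + 1)) := by
  induction n generalizing F with
  | zero =>
    refine subsingleton_of_forall_eq 0 fun x => ?_
    obtain ⟨y, rfl⟩ := hDelta_surjective (injSeq_shortExact F) 0 x
    obtain ⟨s, rfl⟩ := (hZero _).symm.surjective y
    exact (hDelta_zero_iff _ _).2 (sections_surjective (injSeq_shortExact F) hF hTop s)
  | succ n ih =>
    have := ih (acyclic_cokernel (injSeq_shortExact F) hF)
    exact (hDelta_surjective (injSeq_shortExact F) (n + 1)).subsingleton

section CechComparison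

variable {ι : Type u} (V : ι → Opens X)

/-- Restriction of a global section to a Cech 0-cochain. -/
def cechAug (P : TopCat.Presheaf AddCommGrpCat.{u} X) : P.obj (op ⊤) ⟶ (cech V P).X 0 :=
  AddCommGrpCat.ofHom
    { toFun := fun s i => res P le_top s
      map_zero' := funext fun _ => map_zero _
      map_add' := fun _ _ => funext fun _ => map_add _ _ _ }

lemma cechAug_d (P : TopCat.Presheaf AddCommGrpCat.{u} X) :
    cechAug V P ≫ (cech V P).d 0 1 = 0 := by
  refine AddCommGrpCat.ext fun s => ?_
  refine (cech_d_apply V P 0 _).trans (funext fun i => (dCech_zero_apply V _ i).trans ?_)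
  exact sub_eq_zero.2 ((res_res P _ _ s).trans (res_res P _ _ s).symm)

/-- Global sections to degree zero Cech cohomology. -/
def sectionsToCech (P : TopCat.Presheaf AddCommGrpCat.{u} X) :
    P.obj (op ⊤) ⟶ (cech V P).homology 0 :=
  (cech V P).liftCycles (cechAug V P) 1 (by simp) (cechAug_d V P) ≫ (cech V P).homologyπ 0

lemma sectionsToCech_naturality {P Q : TopCat.Presheaf AddCommGrpCat.{u} X} (f : P ⟶ Q) :
    f.app (op ⊤) ≫ sectionsToCech V Q =
      sectionsToCech V P ≫ homologyMap ((cechFunctor V).map f) 0 := by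
  simp only [sectionsToCech]
  refine Eq.trans ?_ (Category.assoc _ _ _).symm
  refine Eq.trans ?_ (congrArg _ (homologyπ_naturality ((cechFunctor V).map f) 0).symm)
  refine Eq.trans ?_ (Category.assoc _ _ _)
  refine (Category.assoc _ _ _).symm.trans (congrArg (fun m => m ≫ (cech V Q).homologyπ 0) ?_)
  have h : f.app (op ⊤) ≫ cechAug V Q = cechAug V P ≫ ((cechFunctor V).map f).f 0 :=
    AddCommGrpCat.ext fun s => funext fun i => nat_res P f le_top s
  refine (cancel_mono ((cech V Q).iCycles 0)).1 ?_
  rw [Category.assoc, liftCycles_i, h]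
  refine Eq.symm ((Category.assoc _ _ _).trans
    ((congrArg _ (cyclesMap_i ((cechFunctor V).map f) 0)).trans ?_))
  refine (Category.assoc _ _ _).symm.trans (congrArg (fun m => m ≫ _) ?_)
  exact liftCycles_i _ _ _ _ _

lemma sectionsToCech_bijective (hV : ⨆ k, V k = ⊤) (F : AbSheaf X) :
    Function.Bijective (sectionsToCech V F.obj) := by
  have hk : ∀ k : ι, V k ≤ inter V (fun _ : Fin 1 => k) := fun k => le_iInf fun _ => le_rfl
  have hinj : Function.Injective (cechAug V F.obj) := fun s t h =>
    TopCat.Sheaf.eq_of_locally_eq' F V ⊤ (fun k => homOfLE le_top) hV.ge s t fun k => by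
      exact ((res_res F.obj _ _ _).symm.trans
        (congrArg (res F.obj (hk k)) (congrFun h (fun _ => k)))).trans (res_res F.obj _ _ _)
  have hex : ∀ u : cochain V F.obj (Fin 1), dCech V F.obj 0 u = 0 →
      ∃ s, cechAug V F.obj s = u := fun u hu => by
    obtain ⟨v, hv⟩ := cocycle_zero_glue V F hV u hu
    exact ⟨v, funext fun i => hv i le_top⟩
  have hi : Function.Injective ((cech V F.obj).iCycles 0) :=
    (AddCommGrpCat.mono_iff_injective _).1 inferInstance
  have hπ : Function.Bijective ((cech V F.obj).homologyπ 0) :=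
    ConcreteCategory.bijective_of_isIso _
  have hli : ∀ s, (cech V F.obj).iCycles 0
      ((cech V F.obj).liftCycles (cechAug V F.obj) 1 (by simp) (cechAug_d V F.obj) s) =
      cechAug V F.obj s := fun s => by
    rw [← ConcreteCategory.comp_apply, liftCycles_i]
  have h2 : Function.Bijective
      ((cech V F.obj).liftCycles (cechAug V F.obj) 1 (by simp) (cechAug_d V F.obj)) := by
    refine ⟨fun s t h => hinj ?_, fun z => ?_⟩
    · rw [← hli s, h, hli]
    · obtain ⟨s, hs⟩ := hex ((cech V F.obj).iCycles 0 z)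
        ((cech_d_apply V F.obj 0 _).symm.trans (by
          rw [← ConcreteCategory.comp_apply, iCycles_d]; rfl))
      exact ⟨s, hi ((hli s).trans hs)⟩
  exact hπ.comp h2

/-- Cech cohomology with respect to a cover whose intersections lie in `B` is cohomology. -/
theorem cech_homology_equiv {F : AbSheaf X} (hF : S.Acyclic F)
    (hcov : ⨆ k, V k = ⊤) (hV : ∀ (n : ℕ) (i : Fin (n + 1) → ι), S.B (inter V i)) (p : ℕ) :
    Nonempty ((cech V F.obj).homology p ≃+ HTop F p) := by
  induction p generalizing F with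
  | zero =>
    exact ⟨(AddEquiv.ofBijective _ (sectionsToCech_bijective V hcov F)).symm.trans
      (hZero F).symm⟩
  | succ p ih =>
    have hT := injSeq_shortExact F
    have hC := cech_shortExact hT hF V hV
    have hzero : ∀ q, IsZero ((cech V (injSeq F).X₂.obj).homology (q + 1)) := fun q =>
      (exactAt_iff_isZero_homology _ _).1 (cechAcyclic_of_injective V (injSeq F).X₂ q)
    cases p with
    | succ q =>
      obtain ⟨e⟩ := ih (acyclic_cokernel hT hF)
      exact ⟨(hC.δIso (q + 1) (q + 2) rfl (hzero q) (hzero _)).symm.addCommGroupIsoToAddEquiv.trans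
        (e.trans (AddEquiv.ofBijective (hDelta hT (q + 1))
          ⟨hDelta_injective hT q, hDelta_surjective hT (q + 1)⟩))⟩
    | zero =>
      let Q := (injSeq F).X₃
      let δC : (cech V Q.obj).homology 0 ⟶ (cech V F.obj).homology 1 := hC.δ 0 1 rfl
      let ψ₁ : Q.obj.obj (op ⊤) →+ (cech V F.obj).homology 1 :=
        (sectionsToCech V Q.obj ≫ δC).hom
      let ψ₂ : Q.obj.obj (op ⊤) →+ HTop F 1 :=
        (hDelta hT 0).comp (hZero Q).symm.toAddMonoidHom
      have hex1 := (ShortComplex.ab_exact_iff _).1 (hC.homology_exact₁ 0 1 rfl)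
      have hex3 := (ShortComplex.ab_exact_iff _).1 (hC.homology_exact₃ 0 1 rfl)
      have hψ₁ : Function.Surjective ψ₁ := fun x => by
        obtain ⟨y, rfl⟩ := hex1 x (ConcreteCategory.congr_hom
          ((hzero 0).eq_of_tgt (homologyMap ((injSeq F).map (cechSheafFunctor V)).f 1) 0) x)
        obtain ⟨z, rfl⟩ := (sectionsToCech_bijective V hcov Q).2 y
        exact ⟨z, rfl⟩
      have hψ₂ : Function.Surjective ψ₂ :=
        (hDelta_surjective hT 0).comp (hZero Q).symm.surjective
      have hker : ψ₁.ker = ψ₂.ker := by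
        ext s
        rw [AddMonoidHom.mem_ker, AddMonoidHom.mem_ker]
        refine Iff.trans ⟨fun h => ?_, ?_⟩ (hDelta_zero_iff hT s).symm
        · obtain ⟨y, hy⟩ := hex3 _ h
          obtain ⟨t, rfl⟩ := (sectionsToCech_bijective V hcov (injSeq F).X₂).2 y
          exact ⟨t, (sectionsToCech_bijective V hcov Q).1 ((ConcreteCategory.congr_hom
            (sectionsToCech_naturality V (injSeq F).g.hom) t).trans hy)⟩
        · rintro ⟨t, rfl⟩
          refine (congrArg δC (ConcreteCategory.congr_hom
            (sectionsToCech_naturality V (injSeq F).g.hom) t)).trans ?_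
          exact ConcreteCategory.congr_hom (hC.comp_δ 0 1 rfl) (sectionsToCech V _ t)
      exact ⟨((QuotientAddGroup.quotientKerEquivOfSurjective ψ₁ hψ₁).symm.trans
        (QuotientAddGroup.quotientAddEquivOfEq hker)).trans
        (QuotientAddGroup.quotientKerEquivOfSurjective ψ₂ hψ₂)⟩

end CechComparison

end CovSystem

end Groth.Agent.QCohBase
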