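import Mathlib.AlgebraicGeometry.Modules.Tilde

/-!
# Sections of quasi-coherent modules on basic opens of affine opens
-/

noncomputable section

universe u

open CategoryTheory Limits AlgebraicGeometry Opposite TopologicalSpace

namespace Groth.Agent.QCohBase

variable {X : Scheme.{u}}

/-- Restriction of sections of a module. -/
abbrev mres (M : X.Modules) {V W : X.Opens} (h : W ≤ V) : Γ(M, V) →+ Γ(M, W) :=
  (M.presheaf.map (homOfLE h).op).hom

/-- Restriction of functions. -/
abbrev ores {V W : X.Opens} (h : W ≤ V) : Γ(X, V) →+* Γ(X, W) :=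
  (X.presheaf.map (homOfLE h).op).hom

@[simp]
lemma mres_mres (M : X.Modules) {V₁ V₂ V₃ : X.Opens} (h : V₂ ≤ V₁) (h' : V₃ ≤ V₂) (s : Γ(M, V₁)) :
    mres M h' (mres M h s) = mres M (h'.trans h) s := by
  rw [mres, mres, mres, ← ConcreteCategory.comp_apply, ← Functor.map_comp]
  rfl

@[simp]
lemma ores_ores {V₁ V₂ V₃ : X.Opens} (h : V₂ ≤ V₁) (h' : V₃ ≤ V₂) (s : Γ(X, V₁)) :
    ores h' (ores h s) = ores (h'.trans h) s := by
  rw [ores, ores, ores, ← ConcreteCategory.comp_apply, ← Functor.map_comp]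
  rfl

@[simp]
lemma mres_refl (M : X.Modules) {V : X.Opens} (h : V ≤ V) (s : Γ(M, V)) : mres M h s = s := by
  rw [mres, show (homOfLE h).op = 𝟙 (op V) from rfl, M.presheaf.map_id]
  rfl

lemma mres_smul (M : X.Modules) {V W : X.Opens} (h : W ≤ V) (r : Γ(X, V)) (s : Γ(M, V)) :
    mres M h (r • s) = ores h r • mres M h s :=
  M.map_smul (homOfLE h) r s

variable {U : X.Opens}

lemma fromSpec_appIso_inv_res (hU : IsAffineOpen U) (V : (Spec Γ(X, U)).Opens) (r : Γ(X, U))
    (h : hU.fromSpec ''ᵁ V ≤ U) :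
    (hU.fromSpec.appIso V).inv
      ((Spec Γ(X, U)).presheaf.map V.leTop.op ((Scheme.ΓSpecIso Γ(X, U)).inv r)) = ores h r := by
  have hV : V ≤ hU.fromSpec ⁻¹ᵁ U := hU.fromSpec_preimage_self ▸ le_top
  have key : X.presheaf.map (homOfLE h).op ≫ (hU.fromSpec.appIso V).hom =
      (Scheme.ΓSpecIso Γ(X, U)).inv ≫ (Spec Γ(X, U)).presheaf.map V.leTop.op := by
    rw [Scheme.Hom.appIso_hom', Scheme.Hom.map_appLE, Scheme.Hom.appLE, hU.fromSpec_app_self,
      Category.assoc, ← Functor.map_comp]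
    rfl
  have h1 := ConcreteCategory.congr_hom key r
  simp only [ConcreteCategory.comp_apply] at h1
  rw [← h1, ← ConcreteCategory.comp_apply, Iso.hom_inv_id]
  rfl

lemma smul_restrict_fromSpec (hU : IsAffineOpen U) (M : X.Modules) (V : (Spec Γ(X, U)).Opens)
    (r : Γ(X, U)) (h : hU.fromSpec ''ᵁ V ≤ U) (y : Γ(M.restrict hU.fromSpec, V)) :
    (M.restrictAppIso hU.fromSpec V).hom (r • y) =
      ores h r • (M.restrictAppIso hU.fromSpec V).hom y := by
  rw [Scheme.Modules.smul_Spec_def, Scheme.Modules.smul_restrictAppIso_hom_apply,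
    fromSpec_appIso_inv_res hU V r h]

variable (M : X.Modules) [M.IsQuasicoherent]

lemma isLocalizing_restrict (hU : IsAffineOpen U) :
    IsLocalizing (modulesSpecToSheaf.obj (M.restrict hU.fromSpec)) :=
  (isIso_fromTildeΓ_iff_isLocalizing _).1 inferInstance

lemma fromSpec_image_top (hU : IsAffineOpen U) : hU.fromSpec ''ᵁ ⊤ = U := by
  rw [Scheme.Hom.image_top_eq_opensRange, hU.opensRange_fromSpec]

/-- Sections over a basic open extend after multiplying by a power. -/
lemma exists_pow_smul_eq_mres (hU : IsAffineOpen U) (f : Γ(X, U)) {W : X.Opens}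
    (hW : W = X.basicOpen f) (h : W ≤ U) (x : Γ(M, W)) :
    ∃ (n : ℕ) (y : Γ(M, U)), mres M h y = ores h f ^ n • x := by
  subst hW
  have hD := hU.fromSpec_image_basicOpen f
  have hT := fromSpec_image_top hU
  have := isLocalizing_restrict M hU f
  obtain ⟨⟨y, ⟨_, n, rfl⟩⟩, hy⟩ := this.surj
    ((M.restrictAppIso hU.fromSpec _).inv (mres M hD.le x))
  refine ⟨n, mres M hT.ge ((M.restrictAppIso hU.fromSpec ⊤).hom y), ?_⟩
  let V : (Spec Γ(X, U)).Opens := PrimeSpectrum.basicOpen f
  have hy' : (f ^ n) •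
      (M.restrictAppIso hU.fromSpec V).inv (mres M (show hU.fromSpec ''ᵁ V ≤ _ from hD.le) x) =
      (M.restrict hU.fromSpec).presheaf.map V.leTop.op y := hy
  have h2 := congr(mres M hD.ge ((M.restrictAppIso hU.fromSpec _).hom $hy'))
  erw [smul_restrict_fromSpec hU M _ _ (hD.le.trans h), Iso.inv_hom_id_apply, mres_smul, mres_mres,
    mres_refl, map_pow, map_pow, ores_ores, Scheme.Modules.map_restrictAppIso_hom_apply] at h2
  rw [mres_mres]
  refine Eq.trans ?_ h2.symm
  exact (mres_mres M _ _ _).symm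

/-- A section vanishing on a basic open is killed by a power. -/
lemma exists_pow_smul_eq_zero (hU : IsAffineOpen U) (f : Γ(X, U)) {W : X.Opens}
    (hW : W = X.basicOpen f) (h : W ≤ U) (y : Γ(M, U)) (hy : mres M h y = 0) :
    ∃ n : ℕ, f ^ n • y = 0 := by
  subst hW
  have hD := hU.fromSpec_image_basicOpen f
  have hT := fromSpec_image_top hU
  have := isLocalizing_restrict M hU f
  obtain ⟨⟨_, n, rfl⟩, hn⟩ := (IsLocalizedModule.eq_zero_iff (.powers f)
    ((modulesSpecToSheaf.obj (M.restrict hU.fromSpec)).obj.map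
      (PrimeSpectrum.basicOpen f).leTop.op).hom
    (m := (M.restrictAppIso hU.fromSpec ⊤).inv (mres M hT.le y))).1 (by
      change mres M _ (mres M hT.le y) = 0
      have := congrArg (mres M hD.le) hy
      rwa [mres_mres, map_zero, ← mres_mres M hT.le] at this)
  refine ⟨n, ?_⟩
  have hn' : (f ^ n) • (M.restrictAppIso hU.fromSpec ⊤).inv (mres M hT.le y) = 0 := hn
  have h2 := congr(mres M hT.ge ((M.restrictAppIso hU.fromSpec _).hom $hn'))
  erw [smul_restrict_fromSpec hU M _ _ hT.le, Iso.inv_hom_id_apply, mres_smul, mres_mres,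
    mres_refl, map_pow, map_pow, ores_ores, map_zero] at h2
  rwa [show ores (hT.ge.trans hT.le) f = f from by
    rw [ores, show (homOfLE (hT.ge.trans hT.le)).op = 𝟙 (op U) from rfl, X.presheaf.map_id]; rfl] at h2

end Groth.Agent.QCohBase
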