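import Groth.Prelude.Def_Coh
import Groth.Agent.QCohBase.Criterion
import Groth.Agent.QCohBase.Localization
import Mathlib.RingTheory.Ideal.BigOperators

/-!
# Quasi-coherent modules are Cech acyclic on affine opens; affine Serre vanishing
-/

noncomputable section

universe u

open CategoryTheory Limits AlgebraicGeometry Opposite TopologicalSpace

namespace Groth.Agent.QCohBase

variable {X : Scheme.{u}}

lemma inter_basicOpen_eq {U : X.Opens} {ι : Type u} (f : ι → Γ(X, U)) {n : ℕ}
    (i : Fin (n + 1) → ι) :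
    inter (fun j => X.basicOpen (f j)) i = X.basicOpen (∏ k, f (i k)) := by
  induction n with
  | zero =>
    refine Eq.trans ?_ (congrArg X.basicOpen (Fin.prod_univ_one (fun k => f (i k))).symm)
    exact le_antisymm (iInf_le _ 0) (le_iInf fun k => by fin_cases k; exact le_rfl)
  | succ n ih =>
    rw [Fin.prod_univ_succ, Scheme.basicOpen_mul, ← ih (fun k => i k.succ)]
    exact le_antisymm (le_inf (iInf_le _ 0) (le_iInf fun k => iInf_le _ k.succ))
      (le_iInf (Fin.cases inf_le_left fun k => inf_le_right.trans (iInf_le _ k)))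

/-- Affine opens, with finite covers by basic opens. -/
def affineSystem (X : Scheme.{u}) : CovSystem X.toTopCat where
  B U := IsAffineOpen (X := X) U
  Cov U {ι} V := Finite ι ∧ IsAffineOpen (X := X) U ∧
    ∃ f : ι → Γ(X, U), (∀ k, V k = X.basicOpen (f k)) ∧ ⨆ k, V k = U
  cov_eq := fun ⟨_, _, _, _, h⟩ => h
  inter_mem := fun {U ι V} ⟨_, hU, f, hV, _⟩ n i => by
    obtain rfl : V = fun j => X.basicOpen (f j) := funext hV
    rw [inter_basicOpen_eq]
    exact hU.basicOpen _
  refine' := fun {U} hU {κ} W hW => by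
    have key : ∀ x : U, ∃ (k : κ) (f : Γ(X, U)), X.basicOpen f ≤ W k ∧ x.1 ∈ X.basicOpen f := by
      intro x
      obtain ⟨k, hk⟩ := Opens.mem_iSup.1 (hW x.2)
      obtain ⟨f, hf, hxf⟩ := hU.exists_basicOpen_le ⟨x.1, hk⟩ x.2
      exact ⟨k, f, hf, hxf⟩
    choose k f hle hmem using key
    obtain ⟨t, ht⟩ := hU.isCompact.elim_finite_subcover
      (fun x : U => (X.basicOpen (f x) : Set X)) (fun x => (X.basicOpen (f x)).2)
      (fun x hx => Set.mem_iUnion.2 ⟨⟨x, hx⟩, hmem ⟨x, hx⟩⟩)
    refine ⟨↥t, fun j => X.basicOpen (f j), fun j => k j,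
      ⟨inferInstance, hU, fun j => f j, fun _ => rfl, ?_⟩, fun j => hle _⟩
    refine le_antisymm (iSup_le fun j => X.basicOpen_le _) fun x hx => ?_
    obtain ⟨j, hj, hxj⟩ := Set.mem_iUnion₂.1 (ht hx)
    exact Opens.mem_iSup.2 ⟨⟨j, hj⟩, hxj⟩

lemma cechAcyclic_basicOpen (M : X.Modules) [M.IsQuasicoherent] {U : X.Opens}
    (hU : IsAffineOpen U) {ι : Type u} [Finite ι] (f : ι → Γ(X, U))
    (hf : ⨆ j, X.basicOpen (f j) = U) :
    CechAcyclic (X := X.toTopCat) (fun j => X.basicOpen (f j)) M.presheaf := by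
  classical
  cases nonempty_fintype ι
  intro p
  rw [exactAt_succ_iff]
  intro s hs
  let V : ι → X.Opens := fun j => X.basicOpen (f j)
  have hiU : ∀ {n : ℕ} (i : Fin (n + 1) → ι), inter V i ≤ U :=
    fun i => (iInf_le _ 0).trans (X.basicOpen_le _)
  have haff : ∀ {n : ℕ} (i : Fin (n + 1) → ι), IsAffineOpen (inter V i : X.Opens) := fun i => by
    rw [inter_basicOpen_eq]; exact hU.basicOpen _
  have hbo : ∀ {n : ℕ} (i : Fin (n + 1) → ι) (j : ι),
      (inter V i ⊓ V j : X.Opens) = X.basicOpen (ores (hiU i) (f j)) := fun i j =>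
    (Scheme.basicOpen_res X (f j) (homOfLE (hiU i)).op).symm
  have hcons : ∀ (i : Fin (p + 1) → ι) (j : ι),
      inter V i ⊓ V j ≤ inter V (Fin.cons j i : Fin (p + 2) → ι) := fun i j =>
    le_iInf (Fin.cases (by simp) fun a => by simpa using inf_le_of_left_le (iInf_le _ a))
  -- lifts with a uniform exponent
  have hlift : ∀ z : ι × (Fin (p + 1) → ι), ∀ᶠ n in Filter.atTop,
      ∃ y : Γ(M, inter V z.2), mres M (inf_le_left : inter V z.2 ⊓ V z.1 ≤ inter V z.2) y =
        ores ((inf_le_left : inter V z.2 ⊓ V z.1 ≤ inter V z.2).trans (hiU z.2)) (f z.1) ^ n •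
          (show Γ(M, inter V z.2 ⊓ V z.1) from
            mres M (hcons z.2 z.1) (s (Fin.cons z.1 z.2))) := by
    rintro ⟨j, i⟩
    obtain ⟨n, y, hy⟩ := exists_pow_smul_eq_mres M (haff i) (ores (hiU i) (f j)) (hbo i j)
      inf_le_left (mres M (hcons i j) (s (Fin.cons j i)))
    refine Filter.eventually_atTop.2 ⟨n, fun m hm => ⟨ores (hiU i) (f j) ^ (m - n) • y, ?_⟩⟩
    rw [mres_smul, hy, map_pow, ores_ores, smul_smul, ← pow_add, Nat.sub_add_cancel hm]
  obtain ⟨N, hN⟩ := (Filter.eventually_all.2 hlift).exists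
  choose y hy using hN
  let t : ι → cochain (X := X.toTopCat) V M.presheaf (Fin (p + 1)) := fun j i => y (j, i)
  -- the defect is torsion
  have hker : ∀ z : ι × (Fin (p + 2) → ι), ∀ᶠ m in Filter.atTop,
      ores (hiU z.2) (f z.1) ^ m •
        (show Γ(M, inter V z.2) from dCech V M.presheaf p (t z.1) z.2) =
      ores (hiU z.2) (f z.1) ^ (m + N) • (show Γ(M, inter V z.2) from s z.2) := by
    rintro ⟨j, i⟩
    have hvan : mres M (inf_le_left : inter V i ⊓ V j ≤ inter V i)
        ((show Γ(M, inter V i) from dCech V M.presheaf p (t j) i) -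
          ores (hiU i) (f j) ^ N • (show Γ(M, inter V i) from s i)) = 0 := by
      rw [map_sub, sub_eq_zero, mres_smul, map_pow, ores_ores]
      refine Eq.trans ?_ (congrArg (fun z : Γ(M, inter V i ⊓ V j) =>
        ores (inf_le_left.trans (hiU i)) (f j) ^ N • z)
          (dCech_cons_aux V M.presheaf s hs j i (W := inter V i ⊓ V j) inf_le_left inf_le_right).symm)
      refine (map_sum (mres M inf_le_left) _ Finset.univ).trans ?_
      rw [Finset.smul_sum]
      refine Finset.sum_congr rfl fun k _ => ?_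
      rw [map_zsmul, smul_comm]
      congr 1
      have hle : inter V i ⊓ V j ≤ inter V (i ∘ k.succAbove) ⊓ V j :=
        inf_le_inf_right _ (inter_comp_le V i k.succAbove)
      have h1 := congrArg (mres M hle) (hy (j, i ∘ k.succAbove))
      rw [mres_smul, map_pow, ores_ores, mres_mres, mres_mres] at h1
      exact (mres_mres M _ _ _).trans h1
    obtain ⟨m, hm⟩ := exists_pow_smul_eq_zero M (haff i) (ores (hiU i) (f j)) (hbo i j)
      inf_le_left _ hvan
    refine Filter.eventually_atTop.2 ⟨m, fun m' hm' => ?_⟩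
    have h2 := congrArg (fun z => ores (hiU i) (f j) ^ (m' - m) • z) hm
    simp only [smul_zero, smul_smul, ← pow_add, smul_sub, sub_eq_zero] at h2
    rw [show m' - m + m = m' from Nat.sub_add_cancel hm',
      show m' - m + (m + N) = m' + N by omega] at h2
    exact h2
  obtain ⟨m, hm⟩ := (Filter.eventually_all.2 hker).exists
  -- partition of unity
  have hspan : Ideal.span (Set.range fun j => f j ^ (m + N)) = ⊤ := by
    have : Ideal.span (Set.range f) = ⊤ := hU.iSup_basicOpen_eq_self_iff.1 (by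
      exact (iSup_range' (fun g : Γ(X, U) => X.basicOpen g) f).trans hf)
    simpa [← Set.range_comp, Function.comp_def] using Ideal.span_pow_eq_top _ this (m + N)
  obtain ⟨a, ha⟩ := (Submodule.mem_span_range_iff_exists_fun _).1
    (hspan.symm ▸ Submodule.mem_top : (1 : Γ(X, U)) ∈ _)
  refine ⟨fun i => ∑ j, ores (hiU i) (a j * f j ^ m) • (show Γ(M, inter V i) from t j i),
    funext fun i => ?_⟩
  have hd : ∀ (c : ι → Γ(X, U)),
      dCech V M.presheaf p (fun i => ∑ j, ores (hiU i) (c j) • (show Γ(M, inter V i) from t j i)) i =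
      ∑ j, ores (hiU i) (c j) • (show Γ(M, inter V i) from dCech V M.presheaf p (t j) i) := by
    intro c
    simp only [dCech, Finset.smul_sum]
    rw [Finset.sum_comm]
    refine Finset.sum_congr rfl fun k _ => ?_
    refine (congrArg _ (map_sum (mres M (inter_comp_le V i k.succAbove)) _ _)).trans ?_
    rw [Finset.smul_sum]
    refine Finset.sum_congr rfl fun j _ => ?_
    rw [mres_smul, ores_ores, smul_comm]
  refine (hd _).trans ?_
  calc _ = ∑ j, ores (hiU i) (a j * f j ^ (m + N)) • (show Γ(M, inter V i) from s i) := by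
        refine Finset.sum_congr rfl fun j _ => ?_
        rw [map_mul, mul_smul, map_pow, hm (j, i), ← mul_smul, ← map_pow, ← map_mul]
    _ = _ := by
        rw [← Finset.sum_smul, ← map_sum]
        simp only [smul_eq_mul] at ha
        rw [ha, map_one, one_smul]

theorem acyclic_of_isQCoh (M : X.Modules) [Coh.IsQCoh M] :
    (affineSystem X).Acyclic (Coh.toAb M) := by
  rintro U ι V - ⟨hfin, hU, f, hV, hcov⟩
  obtain rfl : V = fun j => X.basicOpen (f j) := funext hV
  exact cechAcyclic_basicOpen M hU f hcov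

/-- Affine Serre vanishing. -/
theorem subsingleton_HH_of_isAffine [IsAffine X] (M : X.Modules) [Coh.IsQCoh M] {p : ℕ}
    (hp : 0 < p) : Subsingleton (Coh.HH X M p) := by
  obtain ⟨q, rfl⟩ := Nat.exists_eq_add_of_le' hp
  exact CovSystem.subsingleton_H (S := affineSystem X) (isAffineOpen_top X) (acyclic_of_isQCoh M) q

/-- Sections over affine opens are right exact for quasi-coherent kernels. -/
theorem sections_surjective_of_isQCoh {T : ShortComplex (AbSheaf X.toTopCat)} (hT : T.ShortExact)
    (M : X.Modules) [Coh.IsQCoh M] (e : T.X₁ = Coh.toAb M) {U : X.Opens} (hU : IsAffineOpen U) :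
    Function.Surjective (T.g.hom.app (op U)) :=
  CovSystem.sections_surjective (S := affineSystem X) hT (e ▸ acyclic_of_isQCoh M) hU

end Groth.Agent.QCohBase
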