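import Groth.Agent.QCohBase.CohProps
import Groth.Prelude.Def_CohB1
import Mathlib.Algebra.Module.FinitePresentation

/-!
# Finitely presented modules
-/

noncomputable section

universe u

open CategoryTheory Limits AlgebraicGeometry Opposite TopologicalSpace

namespace Groth.Agent.QCohBase

variable {X : Scheme.{u}}

lemma exists_presentation_tilde_finite {R : CommRingCat.{u}} (N : ModuleCat.{u} R)
    [Module.FinitePresentation R N] :
    ∃ P : (tilde N).Presentation, Finite P.generators.I ∧ Finite P.relations.I := by
  obtain ⟨s, hs, t, ht⟩ := Module.FinitePresentation.out (R := R) (M := N)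
  refine ⟨presentationTilde.{u} N (s : Set N) hs _ ht, ?_, ?_⟩
  · exact inferInstanceAs (Finite (↥(s : Set N)))
  · exact inferInstanceAs (Finite (↥(t : Set ((↥(s : Set N)) →₀ R))))

lemma exists_presentation_over_finite {M : X.Modules} [M.IsQuasicoherent] {U : X.Opens}
    (hU : IsAffineOpen U) (h : Module.FinitePresentation Γ(X, U) Γ(M, U)) :
    ∃ P : SheafOfModules.Presentation (SheafOfModules.over M U),
      Finite P.generators.I ∧ Finite P.relations.I := by
  let N : ModuleCat.{u} Γ(X, U) :=
    (modulesSpecToSheaf.obj (M.restrict hU.fromSpec)).presheaf.obj (op ⊤)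
  haveI : Module.FinitePresentation Γ(X, U) N :=
    Module.FinitePresentation.of_equiv (sectionsEquiv M hU).symm
  obtain ⟨P₀, h1, h2⟩ := exists_presentation_tilde_finite N
  have hi : IsIso (M.restrict hU.fromSpec).fromTildeΓ := inferInstance
  let P₁ : (M.restrict hU.fromSpec).Presentation :=
    SheafOfModules.Presentation.ofIsIso.{u, u, u}
      (@asIso _ _ _ _ (M.restrict hU.fromSpec).fromTildeΓ hi).hom P₀
  let P₂ : (M.restrict U.ι).Presentation := SheafOfModules.Presentation.ofIsIso.{u, u, u}
    (((Scheme.Modules.restrictFunctorComp hU.isoSpec.hom hU.fromSpec).symm ≪≫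
      Scheme.Modules.restrictFunctorCongr hU.isoSpec_hom_fromSpec).app M).hom
    (Scheme.Modules.presentationRestrict hU.isoSpec.hom P₁)
  exact ⟨presentationOver U P₂, h1, h2⟩

/-- Modules with finitely presented sections on an affine cover are finitely presented. -/
theorem isFinitePresentation_of_affine (M : X.Modules) [M.IsQuasicoherent]
    (h : ∀ x : X, ∃ U : X.Opens, IsAffineOpen U ∧ x ∈ U ∧
      Module.FinitePresentation Γ(X, U) Γ(M, U)) :
    SheafOfModules.IsFinitePresentation (R := X.ringCatSheaf) M := by
  choose U hU hxU hfp using h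
  choose P hP using fun x => exists_presentation_over_finite (hU x) (hfp x)
  let σ : SheafOfModules.QuasicoherentData.{u, u, u} M :=
           { I := X,
             X := U,
             coversTop := (Opens.coversTop_iff X.toTopCat _).2
              (top_le_iff.1 fun x _ => Opens.mem_iSup.2 ⟨x, hxU x⟩),
             presentation := P }
  constructor
  refine ⟨σ, ?_⟩
  constructor
  exact fun x => { isFiniteType_generators := { finite := (hP x).1 },
                   isFiniteType_relations := { finite := (hP x).2 } }

/-- On a locally Noetherian scheme, coherent and finitely presented agree. -/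
theorem isCoh_iff_isFP [IsLocallyNoetherian X] (M : X.Modules) :
    Coh.IsCoh M ↔ CohB1.IsFP M := by
  refine ⟨fun h => ?_, fun h => ?_⟩
  · haveI : M.IsQuasicoherent := h.1
    refine isFinitePresentation_of_affine M fun x => ?_
    obtain ⟨U, hU, hxU, -⟩ := Opens.isBasis_iff_nbhd.1 X.isBasis_affineOpens (U := ⊤) (Opens.mem_top x)
    haveI := isNoetherianRing_sections hU
    haveI := isFiniteType_toFinite h hU
    exact ⟨U, hU, hxU, Module.finitePresentation_of_finite _ _⟩
  · haveI : SheafOfModules.IsFinitePresentation (R := X.ringCatSheaf) M := h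
    exact ⟨inferInstance, inferInstance⟩

end Groth.Agent.QCohBase
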