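import Groth.Agent.QCohBase.Support
import Groth.Agent.QCohBase.Noetherian
import Groth.Agent.TensorMod.FinLocFree

/-!
# Finite type is local and stable under inverse image
-/

noncomputable section

universe u

open CategoryTheory Limits AlgebraicGeometry Opposite TopologicalSpace

namespace Groth.Agent.QCohBase

variable {X : Scheme.{u}}

/-- Finitely many generating sections on the members of an open cover. -/
theorem exists_generators_of_isFT {M : X.Modules} (hM : CohB1.IsFT M) (x : X) :
    ∃ U : X.Opens, x ∈ U ∧ ∃ G : (M.restrict U.ι).GeneratingSections, Finite G.I := by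
  obtain ⟨σ, hσ⟩ := hM
  have hcov : iSup σ.X = ⊤ := (Opens.coversTop_iff _ _).1 σ.coversTop
  obtain ⟨i, hi⟩ := Opens.mem_iSup.1 (hcov.ge (Opens.mem_top x))
  let W : X.Opens := σ.X i
  let F : SheafOfModules.{u} (X.ringCatSheaf.over W) ⥤
      SheafOfModules.{u} ((W : Scheme.{u})).ringCatSheaf :=
    (Scheme.Modules.overEquiv W).functor
  haveI : PreservesColimitsOfSize.{u, u} F :=
    inferInstanceAs (PreservesColimitsOfSize.{u, u} (Scheme.Modules.overEquiv W).functor)
  let iso : SheafOfModules.overFunctor X.ringCatSheaf W ⋙ F ≅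
      Scheme.Modules.restrictFunctor W.ι := Scheme.Modules.overFunctorEquiv W
  let η : SheafOfModules.unit (W : Scheme.{u}).ringCatSheaf ≅
      F.obj (SheafOfModules.unit (X.ringCatSheaf.over W)) :=
    (iso.app (SheafOfModules.unit X.ringCatSheaf) ≪≫ Scheme.Modules.restrictUnitIso W.ι).symm
  exact ⟨W, hi, ((σ.generators i).map F η).ofEpi (iso.app M).hom, (hσ.isFiniteType i).finite⟩

/-- A module with finitely many generators on the members of an open cover is of finite type. -/
theorem isFT_of_generators {M : X.Modules}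
    (h : ∀ x : X, ∃ U : X.Opens, x ∈ U ∧ ∃ G : (M.restrict U.ι).GeneratingSections, Finite G.I) :
    CohB1.IsFT M := by
  choose U hxU G hG using h
  have key : ∀ x : X, ∃ G' : (SheafOfModules.over M (U x)).GeneratingSections, Finite G'.I := by
    intro x
    let E := Scheme.Modules.overEquiv (U x)
    let ηo : (SheafOfModules.overFunctor X.ringCatSheaf (U x)).obj
        (SheafOfModules.unit X.ringCatSheaf) ≅ SheafOfModules.unit (X.ringCatSheaf.over (U x)) :=
      Iso.refl _
    let η : SheafOfModules.unit (X.ringCatSheaf.over (U x)) ≅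
        E.inverse.obj (SheafOfModules.unit ((U x : Scheme.{u})).ringCatSheaf) :=
      ηo.symm ≪≫ E.unitIso.app _ ≪≫ E.inverse.mapIso
        ((Scheme.Modules.overFunctorEquiv (U x)).app (SheafOfModules.unit X.ringCatSheaf) ≪≫
          Scheme.Modules.restrictUnitIso (U x).ι)
    haveI : PreservesColimitsOfSize.{u, u} E.inverse := inferInstance
    exact ⟨((G x).map E.inverse η).ofEpi
      (E.inverse.mapIso ((Scheme.Modules.overFunctorEquiv (U x)).app M).symm ≪≫
        (E.unitIso.app (SheafOfModules.over M (U x))).symm).hom, hG x⟩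
  choose G' hG' using key
  let σ : SheafOfModules.LocalGeneratorsData.{u, u, u, u} M :=
           { I := X,
             X := U,
             coversTop := (Opens.coversTop_iff X.toTopCat _).2
              (top_le_iff.1 fun x _ => Opens.mem_iSup.2 ⟨x, hxU x⟩),
             generators := G' }
  constructor
  refine ⟨σ, ?_⟩
  constructor
  exact fun x => { finite := hG' x }

/-- Inverse images of modules of finite type are of finite type. -/
theorem isFT_pullback {Y : Scheme.{u}} (g : X ⟶ Y) {M : Y.Modules} (hM : CohB1.IsFT M) :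
    CohB1.IsFT ((Scheme.Modules.pullback g).obj M) := by
  refine isFT_of_generators fun x => ?_
  obtain ⟨U, hU, G, hG⟩ := exists_generators_of_isFT hM (g x)
  let P : SheafOfModules.{u} (U : Scheme.{u}).ringCatSheaf ⥤
      SheafOfModules.{u} ((g ⁻¹ᵁ U : X.Opens) : Scheme.{u}).ringCatSheaf :=
    Scheme.Modules.pullback (g ∣_ U)
  haveI : PreservesColimitsOfSize.{u, u} P :=
    inferInstanceAs (PreservesColimitsOfSize.{u, u} (Scheme.Modules.pullback (g ∣_ U)))
  exact ⟨g ⁻¹ᵁ U, hU, (G.map P (PicLoc.pullbackStructureIso (g ∣_ U)).symm).ofEpi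
    (TensorMod.pullbackRestrictIso g U M).inv, hG⟩

/-- The support of an inverse image lies in the inverse image of the support. -/
theorem support_pullback_subset {Y : Scheme.{u}} (g : X ⟶ Y) {M : Y.Modules}
    (hM : CohB1.IsFT M) :
    CohB1.support ((Scheme.Modules.pullback g).obj M) ⊆ g ⁻¹' CohB1.support M := by
  intro x hx
  by_contra hgx
  have hopen : IsOpen (CohB1.support M)ᶜ := (isClosed_support M hM).isOpen_compl
  let U : Y.Opens := ⟨(CohB1.support M)ᶜ, hopen⟩
  have hz : IsZero (M.restrict U.ι) := isZero_of_stalks fun y =>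
    (subsingleton_restrict_stalk_iff U.ι M y).2 (not_not.1 y.2)
  have hz' : IsZero (((Scheme.Modules.pullback g).obj M).restrict (g ⁻¹ᵁ U).ι) :=
    (Functor.map_isZero (Scheme.Modules.pullback (g ∣_ U)) hz).of_iso
      (TensorMod.pullbackRestrictIso g U M)
  exact hx ((subsingleton_restrict_stalk_iff (g ⁻¹ᵁ U).ι _ (⟨x, hgx⟩ : ↥(g ⁻¹ᵁ U))).1
    (subsingleton_stalk_of_isZero hz' _))

end Groth.Agent.QCohBase
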