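import Groth.Agent.QCohBase.Criteria
import Groth.Agent.QCohBase.Acyclic
import Groth.Agent.SiteBase.ModColimits

/-!
# Sections of short exact sequences of modules; kernels and extensions of quasi-coherent modules
-/

noncomputable section

universe u

open CategoryTheory Limits AlgebraicGeometry Opposite TopologicalSpace

namespace Groth.Agent.QCohBase

variable {X : Scheme.{u}}

lemma app_nat {M N : X.Modules} (φ : M ⟶ N) {V W : X.Opens} (h : W ≤ V) (s : Γ(M, V)) :
    mres N h (φ.app V s) = φ.app W (mres M h s) :=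
  (ConcreteCategory.congr_hom (φ.mapPresheaf.naturality (homOfLE h).op) s).symm

/-- The underlying abelian sheaf, as a functor. -/
def modAb (X : Scheme.{u}) : X.Modules ⥤ AbSheaf X.toTopCat :=
  SheafOfModules.toSheaf.{u} X.ringCatSheaf

@[simp] lemma modAb_obj (M : X.Modules) : (modAb X).obj M = Coh.toAb M := rfl

lemma modAb_map_app {M N : X.Modules} (φ : M ⟶ N) (U : X.Opens) (s : Γ(M, U)) :
    ((modAb X).map φ).hom.app (op U) s = φ.app U s := rfl

instance : (modAb X).Additive :=
  inferInstanceAs (SheafOfModules.toSheaf.{u} X.ringCatSheaf).Additive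

instance : PreservesFiniteLimits (modAb X) :=
  inferInstanceAs (PreservesFiniteLimits (SheafOfModules.toSheaf.{u} X.ringCatSheaf))

instance : PreservesColimitsOfSize.{u, u} (modAb X) :=
  inferInstanceAs (PreservesColimitsOfSize.{u, u} (SheafOfModules.toSheaf.{u} X.ringCatSheaf))

instance : PreservesFiniteColimits (modAb X) :=
  have : PreservesColimitsOfSize.{0, 0} (modAb X) := preservesColimitsOfSize_shrink.{0, u, 0, u} _
  PreservesColimits.preservesFiniteColimits _

/-- Short exact sequences of modules give short exact sequences of abelian sheaves. -/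
lemma toAb_shortExact {T : ShortComplex X.Modules} (hT : T.ShortExact) :
    (T.map (modAb X)).ShortExact :=
  hT.map_of_exact (modAb X)

variable {T : ShortComplex X.Modules}

lemma app_injective_of_mono {M N : X.Modules} (φ : M ⟶ N) [Mono φ] (U : X.Opens) :
    Function.Injective (φ.app U) := by
  have : Mono ((Scheme.Modules.toPresheaf X).map φ) := inferInstance
  exact (AddCommGrpCat.mono_iff_injective _).1
    ((NatTrans.mono_iff_mono_app ((Scheme.Modules.toPresheaf X).map φ)).1 this (op U))

/-- Sections of a left exact sequence of modules. -/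
lemma sections_exact_left (hT : T.Exact) [Mono T.f] {U : X.Opens} (s : Γ(T.X₂, U))
    (hs : T.g.app U s = 0) : ∃ t : Γ(T.X₁, U), T.f.app U t = s := by
  have h : (T.map (modAb X)).Exact ∧ Mono (T.map (modAb X)).f :=
    ((Functor.preservesFiniteLimits_tfae (modAb X)).out 1 3 rfl rfl).mpr inferInstance T
      ⟨hT, inferInstance⟩
  exact TopCat.Sheaf.sections_exact_of_left_exact h.1 h.2 s hs

/-- Sections over affine opens are exact when the kernel is quasi-coherent. -/
lemma sections_surjective_affine (hT : T.ShortExact) (h₁ : T.X₁.IsQuasicoherent) {U : X.Opens}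
    (hU : IsAffineOpen U) : Function.Surjective (T.g.app U) :=
  sections_surjective_of_isQCoh (toAb_shortExact hT) T.X₁ rfl hU

/-- A module which is, by a monomorphism, the kernel of a map of quasi-coherent modules
is quasi-coherent. -/
theorem isQuasicoherent_of_exact_left (hT : T.Exact) [Mono T.f]
    (h₂ : T.X₂.IsQuasicoherent) (h₃ : T.X₃.IsQuasicoherent) : T.X₁.IsQuasicoherent :=
  isQuasicoherent_of_forall_localizesOn fun U hU f => by
    obtain ⟨hl₂, hk₂⟩ := localizesOn_of_isQuasicoherent T.X₂ hU f
    obtain ⟨-, hk₃⟩ := localizesOn_of_isQuasicoherent T.X₃ hU f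
    have hzero : ∀ (W : X.Opens) (z : Γ(T.X₁, W)), T.g.app W (T.f.app W z) = 0 := fun W z => by
      rw [← ConcreteCategory.comp_apply, ← Scheme.Modules.Hom.comp_app, T.zero]
      rfl
    refine ⟨fun x => ?_, fun y hy => ?_⟩
    · obtain ⟨n, y, hy⟩ := hl₂ (T.f.app _ x)
      obtain ⟨m, hm⟩ := hk₃ (T.g.app U y) (by
        rw [app_nat, hy, ← Scheme.Modules.Hom.app_smul, hzero])
      obtain ⟨z, hz⟩ := sections_exact_left hT (U := U) (f ^ m • y) (by
        rw [Scheme.Modules.Hom.app_smul, hm])
      refine ⟨m + n, z, app_injective_of_mono T.f _ ?_⟩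
      rw [← app_nat, hz, mres_smul, hy, Scheme.Modules.Hom.app_smul, smul_smul, map_pow, pow_add]
    · obtain ⟨n, hn⟩ := hk₂ (T.f.app U y) (by rw [app_nat, hy, map_zero])
      refine ⟨n, app_injective_of_mono T.f _ ?_⟩
      rw [Scheme.Modules.Hom.app_smul, hn, map_zero]

/-- Kernels of maps of quasi-coherent modules are quasi-coherent. -/
theorem isQuasicoherent_kernel {M N : X.Modules} (φ : M ⟶ N)
    (hM : M.IsQuasicoherent) (hN : N.IsQuasicoherent) : (kernel φ).IsQuasicoherent := by
  let T : ShortComplex X.Modules := ShortComplex.mk (kernel.ι φ) φ (kernel.condition φ)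
  have : Mono T.f := inferInstanceAs (Mono (kernel.ι φ))
  exact isQuasicoherent_of_exact_left (T := T)
    (ShortComplex.exact_of_f_is_kernel _ (kernelIsKernel φ)) hM hN

/-- Extensions of quasi-coherent modules are quasi-coherent. -/
theorem isQuasicoherent_of_extension (hT : T.ShortExact) (h₁ : T.X₁.IsQuasicoherent)
    (h₃ : T.X₃.IsQuasicoherent) : T.X₂.IsQuasicoherent :=
  isQuasicoherent_of_forall_localizesOn fun U hU f => by
    have := hT.mono_f
    obtain ⟨hl₁, hk₁⟩ := localizesOn_of_isQuasicoherent T.X₁ hU f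
    obtain ⟨hl₃, hk₃⟩ := localizesOn_of_isQuasicoherent T.X₃ hU f
    refine ⟨fun x => ?_, fun y hy => ?_⟩
    · obtain ⟨n, c, hc⟩ := hl₃ (T.g.app _ x)
      obtain ⟨b, rfl⟩ := sections_surjective_affine hT h₁ hU c
      obtain ⟨a, ha⟩ := sections_exact_left hT.exact
        (ores (X.basicOpen_le f) f ^ n • x - mres T.X₂ (X.basicOpen_le f) b) (by
          rw [map_sub, Scheme.Modules.Hom.app_smul, ← app_nat, hc, sub_self])
      obtain ⟨m, a', ha'⟩ := hl₁ a
      refine ⟨m + n, T.f.app U a' + f ^ m • b, ?_⟩
      rw [map_add, app_nat, ha', Scheme.Modules.Hom.app_smul, ha, mres_smul, map_pow, smul_sub,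
        sub_add_cancel, smul_smul, pow_add]
    · obtain ⟨n, hn⟩ := hk₃ (T.g.app U y) (by rw [app_nat, hy, map_zero])
      obtain ⟨a, ha⟩ := sections_exact_left hT.exact (f ^ n • y)
        (by rw [Scheme.Modules.Hom.app_smul, hn])
      obtain ⟨m, hm⟩ := hk₁ a (app_injective_of_mono T.f _ (by
        rw [← app_nat, ha, mres_smul, hy, smul_zero, map_zero]))
      refine ⟨m + n, ?_⟩
      rw [pow_add, mul_smul, ← ha, ← Scheme.Modules.Hom.app_smul, hm, map_zero]

end Groth.Agent.QCohBase
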