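import Groth.Agent.QCohBase.Criteria
import Groth.Agent.QCohBase.Exact
import Groth.Agent.QCohBase.Qcqs
import Mathlib.RingTheory.Finiteness.Basic
import Mathlib.RingTheory.Support

/-!
# Modules of finite type and finite presentation
-/

noncomputable section

universe u

open CategoryTheory Limits AlgebraicGeometry Opposite TopologicalSpace

namespace Groth.Agent.QCohBase

variable {X : Scheme.{u}}

section FromEpi

variable {R : CommRingCat.{u}}

/-- A quasi-coherent module on a spectrum receiving an epimorphism from a finite free module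
has finitely generated global sections. -/
lemma finite_sections_of_epi_free (M : (Spec R).Modules) [IsIso M.fromTildeΓ] {ι : Type u} [Finite ι]
    (π : SheafOfModules.free.{u} (R := (Spec R).ringCatSheaf) ι ⟶ M) [Epi π] :
    Module.Finite R ((modulesSpecToSheaf.obj M).presheaf.obj (op ⊤) : ModuleCat.{u} R) := by
  let N : ModuleCat.{u} R := (modulesSpecToSheaf.obj M).presheaf.obj (op ⊤)
  let π₁ : tilde (ModuleCat.of R (ι →₀ R)) ⟶ tilde N :=
    (tildeFinsupp ι).hom ≫ π ≫ (asIso M.fromTildeΓ).inv
  let g : ModuleCat.of R (ι →₀ R) ⟶ N := (tilde.functor R).preimage π₁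
  have h1 : Epi ((tilde.functor R).map g) := by
    rw [(tilde.functor R).map_preimage]
    exact @epi_comp _ _ _ _ _ _ (IsIso.epi_of_iso _) _ (@epi_comp _ _ _ _ _ _ ‹Epi π› _
      (@IsIso.epi_of_iso _ _ _ _ _ (Iso.isIso_inv _)))
  have h2 : Epi g := (tilde.functor R).epi_of_epi_map h1
  exact Module.Finite.of_surjective g.hom ((ModuleCat.epi_iff_surjective g).1 h2)

/-- Generating sections transported along an epimorphism. -/
def genOfEpi {M N : SheafOfModules.{u} (Spec R).ringCatSheaf} (G : M.GeneratingSections) (p : M ⟶ N)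
    (hp : Epi p) : N.GeneratingSections :=
  haveI := hp
  G.ofEpi p

/-- Generating sections of `tilde N` from a spanning family. -/
def generatingSectionsTilde (N : ModuleCat.{u} R) {ι : Type u} (v : ι → N)
    (hv : Submodule.span R (Set.range v) = ⊤) : (tilde N).GeneratingSections :=
  haveI : Epi (ModuleCat.ofHom (Finsupp.linearCombination R v)) :=
    (ModuleCat.epi_iff_surjective _).2
      (LinearMap.range_eq_top.1 ((Finsupp.range_linearCombination R).trans hv))
  have h : Epi (tilde.map (ModuleCat.ofHom (Finsupp.linearCombination R v))) :=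
    (tilde.functor R).map_epi (ModuleCat.ofHom (Finsupp.linearCombination R v))
  { I := ι
    s := (tilde N).freeHomEquiv ((tildeFinsupp ι).inv ≫
      tilde.map (ModuleCat.ofHom (Finsupp.linearCombination R v)))
    epi := by
      erw [Equiv.symm_apply_apply]
      exact @epi_comp _ _ _ _ _ _ (IsIso.epi_of_iso _) _ h }

end FromEpi

variable {U : X.Opens}

/-- Global sections of the restriction to the spectrum, as sections on the affine open. -/
def sectionsEquiv (M : X.Modules) (hU : IsAffineOpen U) :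
    ((modulesSpecToSheaf.obj (M.restrict hU.fromSpec)).presheaf.obj (op ⊤) :
      ModuleCat.{u} Γ(X, U)) ≃ₗ[Γ(X, U)] Γ(M, U) where
  toFun x := mres M (fromSpec_image_top hU).ge
    ((M.restrictAppIso hU.fromSpec ⊤).hom (show Γ(M.restrict hU.fromSpec, ⊤) from x))
  invFun y := (show Γ(M.restrict hU.fromSpec, ⊤) from
    (M.restrictAppIso hU.fromSpec ⊤).inv (mres M (fromSpec_image_top hU).le y))
  left_inv x := by
    dsimp
    rw [mres_mres, mres_refl]
    exact Iso.hom_inv_id_apply _ _
  right_inv y := by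
    dsimp
    erw [Iso.inv_hom_id_apply]
    rw [mres_mres, mres_refl]
  map_add' x y :=
    (congrArg (mres M (fromSpec_image_top hU).ge)
      (map_add (M.restrictAppIso hU.fromSpec ⊤).hom.hom
        (show Γ(M.restrict hU.fromSpec, ⊤) from x) (show Γ(M.restrict hU.fromSpec, ⊤) from y))).trans
      (map_add _ _ _)
  map_smul' r x := by
    change mres M (fromSpec_image_top hU).ge ((M.restrictAppIso hU.fromSpec ⊤).hom
      (r • (show Γ(M.restrict hU.fromSpec, ⊤) from x))) = _
    rw [smul_restrict_fromSpec hU M ⊤ r (fromSpec_image_top hU).le, mres_smul, ores_ores,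
      ores, show (homOfLE ((fromSpec_image_top hU).ge.trans (fromSpec_image_top hU).le)).op =
        𝟙 (op U) from rfl, X.presheaf.map_id]
    rfl

section Affine

variable (M : X.Modules) [M.IsQuasicoherent]

/-- Sections on a basic open of an affine open are finitely generated if those on the open are. -/
lemma finite_basicOpen (hU : IsAffineOpen U) (f : Γ(X, U)) (h : Module.Finite Γ(X, U) Γ(M, U)) :
    Module.Finite Γ(X, X.basicOpen f) Γ(M, X.basicOpen f) := by
  classical
  obtain ⟨s, hs⟩ := h.fg_top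
  refine ⟨⟨s.image (mres M (X.basicOpen_le f)), eq_top_iff.2 fun x _ => ?_⟩⟩
  obtain ⟨n, y, hy⟩ := exists_pow_smul_eq_mres M hU f rfl (X.basicOpen_le f) x
  have hmem : mres M (X.basicOpen_le f) y ∈
      Submodule.span Γ(X, X.basicOpen f) ↑(s.image (mres M (X.basicOpen_le f))) := by
    have hy' : y ∈ Submodule.span Γ(X, U) (s : Set Γ(M, U)) := hs ▸ Submodule.mem_top
    clear hy
    induction hy' using Submodule.span_induction with
    | mem z hz => exact Submodule.subset_span (Finset.mem_image_of_mem _ hz)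
    | zero => simp
    | add a b _ _ iha ihb => rw [map_add]; exact add_mem iha ihb
    | smul r a _ iha => rw [mres_smul]; exact Submodule.smul_mem _ _ iha
  have hu : IsUnit (ores (X.basicOpen_le f) f) := X.toRingedSpace.isUnit_res_basicOpen f
  obtain ⟨v, hv⟩ := (hu.pow n).exists_left_inv
  have hx : x = v • mres M (X.basicOpen_le f) y := by
    rw [hy, smul_smul]
    exact (one_smul _ x).symm.trans (congrArg (· • x) hv.symm)
  rw [hx]
  exact Submodule.smul_mem _ _ hmem

/-- Finite generation spreads from a cover by basic opens to the affine open. -/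
lemma finite_of_basicOpen_cover (hU : IsAffineOpen U) {κ : Type u} [Finite κ] (f : κ → Γ(X, U))
    (hf : U ≤ ⨆ k, X.basicOpen (f k))
    (h : ∀ k, Module.Finite Γ(X, X.basicOpen (f k)) Γ(M, X.basicOpen (f k))) :
    Module.Finite Γ(X, U) Γ(M, U) := by
  classical
  cases nonempty_fintype κ
  choose s hs using fun k => (h k).fg_top
  have : ∀ (k : κ) (x : Γ(M, X.basicOpen (f k))), ∃ (n : ℕ) (y : Γ(M, U)),
      mres M (X.basicOpen_le (f k)) y = ores (X.basicOpen_le (f k)) (f k) ^ n • x :=
    fun k x => exists_pow_smul_eq_mres M hU (f k) rfl _ x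
  choose n y hy using this
  let G : Finset Γ(M, U) := Finset.univ.biUnion fun k => (s k).image (y k)
  refine ⟨⟨G, eq_top_iff.2 fun z _ => ?_⟩⟩
  -- elements of the span, up to powers
  have hloc : ∀ k, ∀ x : Γ(M, X.basicOpen (f k)), ∃ (m : ℕ) (w : Γ(M, U)),
      w ∈ Submodule.span Γ(X, U) (G : Set Γ(M, U)) ∧
        mres M (X.basicOpen_le (f k)) w = ores (X.basicOpen_le (f k)) (f k) ^ m • x := by
    intro k x
    have hx : x ∈ Submodule.span Γ(X, X.basicOpen (f k)) (s k : Set _) := hs k ▸ Submodule.mem_top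
    induction hx using Submodule.span_induction with
    | mem a ha => exact ⟨n k a, y k a, Submodule.subset_span
        (Finset.mem_biUnion.2 ⟨k, Finset.mem_univ _, Finset.mem_image_of_mem _ ha⟩), hy k a⟩
    | zero => exact ⟨0, 0, zero_mem _, by simp⟩
    | add a b _ _ iha ihb =>
      obtain ⟨i, wa, hwa, ea⟩ := iha
      obtain ⟨j, wb, hwb, eb⟩ := ihb
      refine ⟨i + j, f k ^ j • wa + f k ^ i • wb,
        add_mem (Submodule.smul_mem _ _ hwa) (Submodule.smul_mem _ _ hwb), ?_⟩
      rw [map_add, mres_smul, mres_smul, ea, eb, map_pow, map_pow, smul_smul, smul_smul, ← pow_add,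
        ← pow_add, add_comm j i, smul_add]
    | smul r a _ iha =>
      obtain ⟨i, wa, hwa, ea⟩ := iha
      letI := (X.presheaf.map (homOfLE (X.basicOpen_le (f k))).op).hom.toAlgebra
      haveI := hU.isLocalization_basicOpen (f k)
      obtain ⟨⟨c, ⟨_, j, rfl⟩⟩, hc⟩ := IsLocalization.surj (Submonoid.powers (f k)) r
      refine ⟨j + i, c • wa, Submodule.smul_mem _ _ hwa, ?_⟩
      have hc' : r * ores (X.basicOpen_le (f k)) (f k) ^ j = ores (X.basicOpen_le (f k)) c := by
        rw [← map_pow]; exact hc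
      rw [mres_smul, ea, ← hc', smul_smul, smul_smul, pow_add]
      congr 1
      ring
  have hz : ∀ k, ∃ N : ℕ, f k ^ N • z ∈ Submodule.span Γ(X, U) (G : Set Γ(M, U)) := fun k => by
    obtain ⟨m, w, hw, e⟩ := hloc k (mres M (X.basicOpen_le (f k)) z)
    obtain ⟨N, hN⟩ := exists_pow_smul_eq_zero M hU (f k) rfl (X.basicOpen_le (f k))
      (f k ^ m • z - w) (by rw [map_sub, mres_smul, map_pow, e, sub_self])
    refine ⟨N + m, ?_⟩
    rw [smul_sub, sub_eq_zero, smul_smul, ← pow_add] at hN
    rw [hN]
    exact Submodule.smul_mem _ _ hw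
  refine Submodule.mem_of_span_eq_top_of_smul_pow_mem _ (Set.range f) ?_ z ?_
  · refine hU.self_le_iSup_basicOpen_iff.1 ?_
    rwa [iSup_range' (fun g : Γ(X, U) => X.basicOpen g) f]
  · rintro ⟨_, k, rfl⟩
    exact hz k

end Affine

/-- A finite type module has finitely generated sections on some affine neighbourhood of each
point inside any given neighbourhood. -/
lemma exists_affine_finite_of_isFiniteType (M : X.Modules) [M.IsQuasicoherent]
    (hM : SheafOfModules.IsFiniteType (R := X.ringCatSheaf) M) (x : X) :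
    ∃ W : X.Opens, x ∈ W ∧ ∀ V : X.Opens, IsAffineOpen V → V ≤ W →
      Module.Finite Γ(X, V) Γ(M, V) := by
  obtain ⟨σ, hσ⟩ := hM
  have hcov : iSup σ.X = ⊤ := (Opens.coversTop_iff _ _).1 σ.coversTop
  obtain ⟨i, hi⟩ := Opens.mem_iSup.1 (hcov.ge (Opens.mem_top x))
  refine ⟨σ.X i, hi, fun V hV hle => ?_⟩
  let t : Spec Γ(X, V) ⟶ (σ.X i : Scheme.{u}) := hV.isoSpec.inv ≫ X.homOfLE hle
  let F : SheafOfModules.{u} (X.ringCatSheaf.over (σ.X i)) ⥤
      SheafOfModules.{u} (Spec Γ(X, V)).ringCatSheaf :=
    (Scheme.Modules.overEquiv (σ.X i)).functor ⋙ Scheme.Modules.restrictFunctor t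
  haveI : PreservesColimitsOfSize.{u, u} F := inferInstanceAs (PreservesColimitsOfSize.{u, u}
    ((Scheme.Modules.overEquiv (σ.X i)).functor ⋙ Scheme.Modules.restrictFunctor t))
  let iso : SheafOfModules.overFunctor X.ringCatSheaf (σ.X i) ⋙ F ≅
      Scheme.Modules.restrictFunctor hV.fromSpec :=
    (Functor.associator _ _ _).symm ≪≫
      Functor.isoWhiskerRight (Scheme.Modules.overFunctorEquiv _) _ ≪≫
      (Scheme.Modules.restrictFunctorComp _ _).symm ≪≫
      Scheme.Modules.restrictFunctorCongr (show t ≫ Scheme.Opens.ι (U := σ.X i) = hV.fromSpec by simp [t])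
  let η : SheafOfModules.unit (Spec Γ(X, V)).ringCatSheaf ≅
      F.obj (SheafOfModules.unit (X.ringCatSheaf.over (σ.X i))) :=
    (iso.app (SheafOfModules.unit X.ringCatSheaf) ≪≫
      Scheme.Modules.restrictUnitIso hV.fromSpec).symm
  let G := ((σ.generators i).map F η).ofEpi (iso.app M).hom
  haveI : Finite G.I := (hσ.isFiniteType i).finite
  haveI : IsIso (M.restrict hV.fromSpec).fromTildeΓ := inferInstance
  haveI := finite_sections_of_epi_free (M.restrict hV.fromSpec) G.π
  exact Module.Finite.equiv (sectionsEquiv M hV)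

/-- Sections of a quasi-coherent module of finite type over an affine open are finitely
generated. -/
theorem finite_sections (M : X.Modules) [M.IsQuasicoherent]
    (hM : SheafOfModules.IsFiniteType (R := X.ringCatSheaf) M) (hU : IsAffineOpen U) :
    Module.Finite Γ(X, U) Γ(M, U) := by
  classical
  have key : ∀ x : U, ∃ f : Γ(X, U), x.1 ∈ X.basicOpen f ∧
      Module.Finite Γ(X, X.basicOpen f) Γ(M, X.basicOpen f) := fun x => by
    obtain ⟨W, hxW, hW⟩ := exists_affine_finite_of_isFiniteType M hM x.1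
    obtain ⟨f, hf, hxf⟩ := hU.exists_basicOpen_le ⟨x.1, hxW⟩ x.2
    exact ⟨f, hxf, hW _ (hU.basicOpen f) hf⟩
  choose f hxf hfin using key
  obtain ⟨t, ht⟩ := hU.isCompact.elim_finite_subcover
    (fun x : U => (X.basicOpen (f x) : Set X)) (fun x => (X.basicOpen (f x)).2)
    (fun x hx => Set.mem_iUnion.2 ⟨⟨x, hx⟩, hxf ⟨x, hx⟩⟩)
  refine finite_of_basicOpen_cover M hU (fun k : ↥t => f k) (fun x hx => ?_) fun k => hfin _
  obtain ⟨j, hj, hxj⟩ := Set.mem_iUnion₂.1 (ht hx)
  exact Opens.mem_iSup.2 ⟨⟨j, hj⟩, hxj⟩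

/-- Finite presentations / generators of `M.over U` from finite generation on an affine open. -/
theorem isFiniteType_of_finite (M : X.Modules) [M.IsQuasicoherent]
    (h : ∀ x : X, ∃ U : X.Opens, IsAffineOpen U ∧ x ∈ U ∧ Module.Finite Γ(X, U) Γ(M, U)) :
    SheafOfModules.IsFiniteType (R := X.ringCatSheaf) M := by
  choose U hU hxU hfin using h
  have key : ∀ x : X, ∃ G : (SheafOfModules.over M (U x)).GeneratingSections, Finite G.I := by
    intro x
    let N : ModuleCat.{u} Γ(X, U x) :=
      (modulesSpecToSheaf.obj (M.restrict (hU x).fromSpec)).presheaf.obj (op ⊤)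
    haveI := hfin x
    haveI : Module.Finite Γ(X, U x) N := Module.Finite.equiv (sectionsEquiv M (hU x)).symm
    obtain ⟨n, v, hv⟩ := Module.Finite.exists_fin (R := Γ(X, U x)) (M := N)
    haveI hi : IsIso (M.restrict (hU x).fromSpec).fromTildeΓ := inferInstance
    haveI : Epi (M.restrict (hU x).fromSpec).fromTildeΓ := @IsIso.epi_of_iso _ _ _ _ _ hi
    let p₀ : (tilde N : SheafOfModules.{u} (Spec Γ(X, U x)).ringCatSheaf) ⟶
        (M.restrict (hU x).fromSpec) := (M.restrict (hU x).fromSpec).fromTildeΓ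
    let G₀ := genOfEpi (generatingSectionsTilde N (fun k : ULift.{u} (Fin n) => v k.down) (by
      rw [← hv]; congr 1; exact Set.ext fun a => ⟨fun ⟨⟨k⟩, e⟩ => ⟨k, e⟩,
        fun ⟨k, e⟩ => ⟨⟨k⟩, e⟩⟩)) p₀ (@IsIso.epi_of_iso _ _ _ _ _ hi)
    let r : SheafOfModules.{u} (Spec Γ(X, U x)).ringCatSheaf ⥤
        SheafOfModules.{u} ((U x : Scheme.{u})).ringCatSheaf :=
      Scheme.Modules.restrictFunctor (hU x).isoSpec.hom
    haveI : PreservesColimitsOfSize.{u, u} r :=
      inferInstanceAs (PreservesColimitsOfSize.{u, u} (Scheme.Modules.restrictFunctor _))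
    let G₁ := (G₀.map r (Scheme.Modules.restrictUnitIso _).symm).ofEpi
      (((Scheme.Modules.restrictFunctorComp (hU x).isoSpec.hom (hU x).fromSpec).symm ≪≫
      Scheme.Modules.restrictFunctorCongr (hU x).isoSpec_hom_fromSpec).app M).hom
    let E := Scheme.Modules.overEquiv (U x)
    let ηo : (SheafOfModules.overFunctor X.ringCatSheaf (U x)).obj
        (SheafOfModules.unit X.ringCatSheaf) ≅ SheafOfModules.unit (X.ringCatSheaf.over (U x)) :=
      Iso.refl _
    let η : SheafOfModules.unit (X.ringCatSheaf.over (U x)) ≅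
        E.inverse.obj (SheafOfModules.unit ((U x : Scheme.{u})).ringCatSheaf) :=
      ηo.symm ≪≫ E.unitIso.app _ ≪≫ E.inverse.mapIso
        ((Scheme.Modules.overFunctorEquiv (U x)).app (SheafOfModules.unit X.ringCatSheaf) ≪≫
          Scheme.Modules.restrictUnitIso (U x).ι)
    haveI : PreservesColimitsOfSize.{u, u} E.inverse := inferInstance
    exact ⟨(G₁.map E.inverse η).ofEpi
      (E.inverse.mapIso ((Scheme.Modules.overFunctorEquiv (U x)).app M).symm ≪≫
        (E.unitIso.app (SheafOfModules.over M (U x))).symm).hom,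
      inferInstanceAs (Finite (ULift.{u} (Fin n)))⟩
  choose G hG using key
  let σ : SheafOfModules.LocalGeneratorsData.{u, u, u, u} M :=
           { I := X,
             X := U,
             coversTop := (Opens.coversTop_iff X.toTopCat _).2
              (top_le_iff.1 fun x _ => Opens.mem_iSup.2 ⟨x, hxU x⟩),
             generators := G }
  constructor
  refine ⟨σ, ?_⟩
  constructor
  exact fun x => { finite := hG x }

/-- Coherent means quasi-coherent with finitely generated sections on affine opens. -/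
theorem isCoh_iff (M : X.Modules) : Coh.IsCoh M ↔ M.IsQuasicoherent ∧
    ∀ V : X.Opens, IsAffineOpen V → Module.Finite Γ(X, V) Γ(M, V) := by
  refine ⟨fun ⟨hq, hf⟩ => ⟨hq, fun V hV => haveI := hq; finite_sections M hf hV⟩, fun ⟨hq, hf⟩ => ?_⟩
  haveI := hq
  refine ⟨hq, isFiniteType_of_finite M fun x => ?_⟩
  obtain ⟨V, hV, hxV, -⟩ :=
    Opens.isBasis_iff_nbhd.1 X.isBasis_affineOpens (U := ⊤) (Opens.mem_top x)
  exact ⟨V, hV, hxV, hf V hV⟩

section Stalk

variable (M : X.Modules) [M.IsQuasicoherent]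

/-- The stalk vanishes iff every section on an affine neighbourhood is killed by a function
invertible at the point. -/
theorem subsingleton_stalk_iff (hU : IsAffineOpen U) (x : X) (hx : x ∈ U) :
    Subsingleton (M.presheaf.stalk x) ↔
      ∀ s : Γ(M, U), ∃ g : Γ(X, U), x ∈ X.basicOpen g ∧ g • s = 0 := by
  constructor
  · intro h s
    obtain ⟨W, hxW, i₁, i₂, he⟩ := TopCat.Presheaf.germ_eq M.presheaf x hx hx s 0
      (Subsingleton.elim _ _)
    obtain ⟨f, hf, hxf⟩ := hU.exists_basicOpen_le ⟨x, hxW⟩ hx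
    have he' : mres M i₁.le s = 0 := he.trans (map_zero _)
    obtain ⟨n, hn⟩ := exists_pow_smul_eq_zero M hU f rfl (X.basicOpen_le f) s (by
      rw [← mres_mres M i₁.le hf s, he', map_zero])
    refine ⟨f ^ (n + 1), ?_, by rw [pow_succ', mul_smul, hn, smul_zero]⟩
    rwa [X.basicOpen_pow _ n.succ_pos]
  · intro h
    refine subsingleton_of_forall_eq 0 fun z => ?_
    obtain ⟨W, hxW, t, rfl⟩ := TopCat.Presheaf.exists_germ_eq M.presheaf z
    obtain ⟨f, hf, hxf⟩ := hU.exists_basicOpen_le ⟨x, hxW⟩ hx
    obtain ⟨n, y, hy⟩ := exists_pow_smul_eq_mres M hU f rfl (X.basicOpen_le f) (mres M hf t)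
    obtain ⟨g, hxg, hg⟩ := h y
    have hDW : X.basicOpen f ⊓ X.basicOpen g ≤ W := inf_le_left.trans hf
    have hu : IsUnit (ores (inf_le_right.trans (X.basicOpen_le g) :
        X.basicOpen f ⊓ X.basicOpen g ≤ U) g *
        ores (inf_le_left.trans (X.basicOpen_le f) : X.basicOpen f ⊓ X.basicOpen g ≤ U) f ^ n) := by
      refine IsUnit.mul ?_ (IsUnit.pow n ?_)
      · have h1 : IsUnit (ores (X.basicOpen_le g) g) := X.toRingedSpace.isUnit_res_basicOpen g
        simpa only [ores_ores] using h1.map
          (ores (inf_le_right : X.basicOpen f ⊓ X.basicOpen g ≤ X.basicOpen g))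
      · have h1 : IsUnit (ores (X.basicOpen_le f) f) := X.toRingedSpace.isUnit_res_basicOpen f
        simpa only [ores_ores] using h1.map
          (ores (inf_le_left : X.basicOpen f ⊓ X.basicOpen g ≤ X.basicOpen f))
    have ht : mres M hDW t = 0 := by
      have h2 := congrArg (mres M (inf_le_left.trans (X.basicOpen_le f) :
        X.basicOpen f ⊓ X.basicOpen g ≤ U)) hg
      have h3 := congrArg (mres M (inf_le_left : X.basicOpen f ⊓ X.basicOpen g ≤ X.basicOpen f)) hy
      rw [mres_mres, mres_smul, mres_mres, map_pow, ores_ores] at h3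
      rw [mres_smul, map_zero, h3, smul_smul] at h2
      exact hu.smul_eq_zero.1 h2
    have hxD : x ∈ X.basicOpen f ⊓ X.basicOpen g := ⟨hxf, hxg⟩
    rw [← TopCat.Presheaf.germ_res_apply M.presheaf (homOfLE hDW) x hxD t]
    change M.presheaf.germ _ x hxD (mres M hDW t) = 0
    rw [ht, map_zero]

/-- Membership in the basic open in terms of the prime of the point. -/
lemma mem_basicOpen_iff_notMem_prime (hU : IsAffineOpen U) (x : X) (hx : x ∈ U) (g : Γ(X, U)) :
    x ∈ X.basicOpen g ↔ g ∉ (hU.primeIdealOf ⟨x, hx⟩).asIdeal := by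
  rw [← PrimeSpectrum.mem_basicOpen, ← hU.fromSpec_preimage_basicOpen]
  change _ ↔ hU.fromSpec (hU.primeIdealOf ⟨x, hx⟩) ∈ X.basicOpen g
  rw [hU.fromSpec_primeIdealOf]

/-- The support on an affine open is the support of the module of sections. -/
theorem mem_support_iff (hU : IsAffineOpen U) (x : X) (hx : x ∈ U) :
    hU.primeIdealOf ⟨x, hx⟩ ∈ Module.support Γ(X, U) Γ(M, U) ↔
      ¬ Subsingleton (M.presheaf.stalk x) := by
  rw [subsingleton_stalk_iff M hU x hx, Module.mem_support_iff']
  simp only [mem_basicOpen_iff_notMem_prime hU x hx, ne_eq, not_forall, not_exists, not_and]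

end Stalk

end Groth.Agent.QCohBase
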