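import Groth.Agent.QCohBase.Noetherian

/-!
# Coherent modules: restriction, tilde, extensions from an open of an affine scheme
-/

noncomputable section

universe u

open CategoryTheory Limits AlgebraicGeometry Opposite TopologicalSpace

namespace Groth.Agent.QCohBase

variable {X Y : Scheme.{u}}

lemma finite_restrict (f : X ⟶ Y) [IsOpenImmersion f] (M : Y.Modules) (W : X.Opens)
    (h : Module.Finite Γ(Y, f ''ᵁ W) Γ(M, f ''ᵁ W)) :
    Module.Finite Γ(X, W) Γ(M.restrict f, W) := by
  classical
  obtain ⟨s, hs⟩ := h.fg_top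
  refine ⟨⟨s.image (M.restrictAppIso f W).inv, eq_top_iff.2 fun z _ => ?_⟩⟩
  have key : ∀ y ∈ Submodule.span Γ(Y, f ''ᵁ W) (s : Set Γ(M, f ''ᵁ W)),
      (M.restrictAppIso f W).inv y ∈ Submodule.span Γ(X, W)
        (↑(s.image (M.restrictAppIso f W).inv) : Set Γ(M.restrict f, W)) := by
    intro y hy
    induction hy using Submodule.span_induction with
    | mem a ha => exact Submodule.subset_span (Finset.mem_image_of_mem _ ha)
    | zero => rw [map_zero]; exact zero_mem _
    | add a b _ _ iha ihb => rw [map_add]; exact add_mem iha ihb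
    | smul r a _ iha =>
      have : (M.restrictAppIso f W).inv (r • a) =
          (f.appIso W).hom r • (M.restrictAppIso f W).inv a :=
        ConcreteCategory.congr_hom (Scheme.Modules.smul_restrictAppIso_inv f M W r) a
      rw [this]
      exact Submodule.smul_mem _ _ iha
  have hz : (M.restrictAppIso f W).inv ((M.restrictAppIso f W).hom z) = z :=
    Iso.hom_inv_id_apply _ _
  rw [← hz]
  exact key _ (hs ▸ Submodule.mem_top)

lemma finite_of_restrict (f : X ⟶ Y) [IsOpenImmersion f] (M : Y.Modules) (W : X.Opens)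
    (h : Module.Finite Γ(X, W) Γ(M.restrict f, W)) :
    Module.Finite Γ(Y, f ''ᵁ W) Γ(M, f ''ᵁ W) := by
  classical
  obtain ⟨s, hs⟩ := h.fg_top
  refine ⟨⟨s.image (M.restrictAppIso f W).hom, eq_top_iff.2 fun z _ => ?_⟩⟩
  have key : ∀ y ∈ Submodule.span Γ(X, W) (s : Set Γ(M.restrict f, W)),
      (M.restrictAppIso f W).hom y ∈ Submodule.span Γ(Y, f ''ᵁ W)
        (↑(s.image (M.restrictAppIso f W).hom) : Set Γ(M, f ''ᵁ W)) := by
    intro y hy
    induction hy using Submodule.span_induction with
    | mem a ha => exact Submodule.subset_span (Finset.mem_image_of_mem _ ha)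
    | zero => rw [map_zero]; exact zero_mem _
    | add a b _ _ iha ihb => rw [map_add]; exact add_mem iha ihb
    | smul r a _ iha =>
      have : (M.restrictAppIso f W).hom (r • a) =
          (f.appIso W).inv r • (M.restrictAppIso f W).hom a :=
        ConcreteCategory.congr_hom (Scheme.Modules.smul_restrictAppIso_hom f M W r) a
      rw [this]
      exact Submodule.smul_mem _ _ iha
  have hz : (M.restrictAppIso f W).hom ((M.restrictAppIso f W).inv z) = z :=
    Iso.inv_hom_id_apply _ _
  rw [← hz]
  exact key _ (hs ▸ Submodule.mem_top)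

/-- Restrictions of coherent modules to open subschemes are coherent. -/
theorem isCoh_restrict (f : X ⟶ Y) [IsOpenImmersion f] {M : Y.Modules} (hM : Coh.IsCoh M) :
    Coh.IsCoh (M.restrict f) := by
  haveI := hM.1
  have hq : (M.restrict f).IsQuasicoherent :=
    inferInstanceAs ((Scheme.Modules.restrictFunctor f).obj M).IsQuasicoherent
  exact (isCoh_iff _).2 ⟨hq, fun W hW =>
    finite_restrict f M W (isFiniteType_toFinite hM (hW.image_of_isOpenImmersion f))⟩

/-- The module associated to a finite module is coherent. -/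
theorem isCoh_tilde {R : CommRingCat.{u}} (N : ModuleCat.{u} R) [hN : Module.Finite R N] :
    Coh.IsCoh (tilde N) := by
  refine ⟨inferInstance, isFiniteType_of_finite (tilde N) fun x => ⟨⊤, isAffineOpen_top _, trivial, ?_⟩⟩
  haveI : Module.Finite R Γ(tilde N, ⊤) := Module.Finite.equiv (tilde.isoTop N).toLinearEquiv
  exact Module.Finite.of_restrictScalars_finite R _ _

section Extension

variable {R : CommRingCat.{u}} {V : (Spec R).Opens} (F : (V : Scheme.{u}).Modules)

/-- A basic open, as an open of the scheme. -/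
abbrev D (f : R) : (Spec R).Opens := PrimeSpectrum.basicOpen f

lemma mono_tilde_map {M N : ModuleCat.{u} R} (i : M ⟶ N) [hi : Mono i] :
    Mono (tilde.map i) := by
  have hinj := (ModuleCat.mono_iff_injective i).1 hi
  have happ : ∀ W, Function.Injective ((tilde.map i).app W) := fun W s t hst => by
    refine Subtype.ext (funext fun y => ?_)
    refine IsLocalizedModule.map_injective y.1.asIdeal.primeCompl
      (LocalizedModule.mkLinearMap y.1.asIdeal.primeCompl M)
      (LocalizedModule.mkLinearMap y.1.asIdeal.primeCompl N) i.hom hinj ?_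
    exact congrFun (congrArg Subtype.val hst) y
  refine Preadditive.mono_of_cancel_zero _ fun {Q} g hg => Scheme.Modules.hom_ext _ _ fun W => ?_
  ext q
  change g.app W q = 0
  apply happ W
  refine Eq.trans ?_ (map_zero _).symm
  change (g ≫ tilde.map i).app W q = 0
  rw [hg]
  rfl

lemma exists_finset_basicOpen_eq' (W : (Spec R).Opens) (hW : IsCompact (W : Set (Spec R))) :
    ∃ t : Finset R, t.sup (fun f => D f) = W := by
  classical
  have key : ∀ x : W, ∃ f : R, D f ≤ W ∧ x.1 ∈ D f :=
    fun x => by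
      obtain ⟨_, ⟨_, ⟨f, rfl⟩, rfl⟩, hxf, hf⟩ :=
        PrimeSpectrum.isBasis_basic_opens.exists_subset_of_mem_open x.2 W.2
      exact ⟨f, hf, hxf⟩
  choose f hf hxf using key
  obtain ⟨t, ht⟩ := hW.elim_finite_subcover
    (fun x : W => ((D (f x) : (Spec R).Opens) : Set (Spec R)))
    (fun x => (D (f x)).2)
    (fun x hx => Set.mem_iUnion.2 ⟨⟨x, hx⟩, hxf ⟨x, hx⟩⟩)
  refine ⟨t.image f, le_antisymm (Finset.sup_le fun g hg => ?_) fun x hx => ?_⟩
  · obtain ⟨x, -, rfl⟩ := Finset.mem_image.1 hg
    exact hf x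
  · obtain ⟨j, hj, hxj⟩ := Set.mem_iUnion₂.1 (ht hx)
    exact (Finset.le_sup (f := fun f => D f)
      (Finset.mem_image_of_mem f hj) :) hxj

/-- A quasi-coherent module on a quasi-compact open of an affine scheme comes from a module. -/
theorem exists_iso_tilde_restrict (hV : IsCompact (V : Set (Spec R))) (hF : F.IsQuasicoherent) :
    ∃ M : ModuleCat.{u} R, Nonempty (F ≅ (tilde M).restrict V.ι) := by
  haveI : CompactSpace (V : Scheme.{u}) := isCompact_iff_compactSpace.mp hV
  haveI : QuasiCompact V.ι := inferInstance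
  haveI : QuasiSeparated V.ι := inferInstance
  haveI := hF
  let P : (Spec R).Modules := (Scheme.Modules.pushforward V.ι).obj F
  haveI : P.IsQuasicoherent := isQuasicoherent_pushforward _ V.ι
  haveI : IsIso P.fromTildeΓ := inferInstance
  exact ⟨_, ⟨((Scheme.Modules.restrictFunctorAdjCounitIso V.ι).app F).symm ≪≫
    (Scheme.Modules.restrictFunctor V.ι).mapIso (asIso P.fromTildeΓ).symm⟩⟩

lemma app_restrictMap_surjective {M N : (Spec R).Modules} (φ : M ⟶ N) (W : (V : Scheme.{u}).Opens)
    (h : Function.Surjective (φ.app (V.ι ''ᵁ W))) :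
    Function.Surjective (((Scheme.Modules.restrictFunctor V.ι).map φ).app W) :=
  h

lemma mono_restrictMap {M N : (Spec R).Modules} (φ : M ⟶ N) [Mono φ] :
    Mono ((Scheme.Modules.restrictFunctor V.ι).map φ) := by
  refine Preadditive.mono_of_cancel_zero _ fun {Q} g hg => Scheme.Modules.hom_ext _ _ fun W => ?_
  ext q
  change g.app W q = 0
  apply app_injective_of_mono φ (V.ι ''ᵁ W)
  refine Eq.trans ?_ (map_zero _).symm
  change (g ≫ (Scheme.Modules.restrictFunctor V.ι).map φ).app W q = 0
  rw [hg]
  rfl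

/-- Sections of `tilde M` on a basic open are fractions. -/
lemma exists_pow_smul_eq_toOpen (M : ModuleCat.{u} R) (f : R)
    (z : Γ(tilde M, D f)) :
    ∃ (n : ℕ) (m : M), f ^ n • z = (show Γ(tilde M, D f) from tilde.toOpen M (D f) m) := by
  obtain ⟨⟨m, ⟨_, n, rfl⟩⟩, h⟩ := IsLocalizedModule.surj (Submonoid.powers f)
    (tilde.toOpen M (D f)).hom z
  exact ⟨n, m, h⟩

/-- A coherent module on an open of a Noetherian affine scheme comes from a finite module. -/
theorem exists_iso_tilde_restrict_finite [IsNoetherianRing R] (hF : Coh.IsCoh F) :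
    ∃ M : ModuleCat.{u} R, Module.Finite R M ∧ Nonempty (F ≅ (tilde M).restrict V.ι) := by
  classical
  have hVc : IsCompact (V : Set (Spec R)) :=
    TopologicalSpace.NoetherianSpace.isCompact (α := PrimeSpectrum R) _
  obtain ⟨M, ⟨e⟩⟩ := exists_iso_tilde_restrict F hVc hF.1
  have hFM : Coh.IsCoh ((tilde M).restrict V.ι) := by
    have hq : ((tilde M).restrict V.ι).IsQuasicoherent :=
      (SheafOfModules.isQuasicoherent (V : Scheme.{u}).ringCatSheaf).prop_of_iso e hF.1
    exact isCoh_of_epi e.hom hF hq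
  -- finitely many basic opens covering `V`
  obtain ⟨t, ht⟩ := exists_finset_basicOpen_eq' V hVc
  -- generators
  have key : ∀ f ∈ t, ∃ S : Finset M, ∀ z : Γ(tilde M, D f),
      z ∈ Submodule.span Γ(Spec R, D f)
        ((fun m => (show Γ(tilde M, D f) from tilde.toOpen M (D f) m)) '' (S : Set M)) := by
    intro f hf
    have hle : D f ≤ V := (ht ▸ Finset.le_sup hf :)
    have hW : IsAffineOpen (V.ι ⁻¹ᵁ D f) := by
      rw [← V.ι.isAffineOpen_iff_of_isOpenImmersion, V.ι.image_preimage_eq_opensRange_inf,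
        Scheme.Opens.opensRange_ι, inf_eq_right.2 hle]
      exact IsAffineOpen.Spec_basicOpen f
    have hfin : Module.Finite Γ(Spec R, D f)
        Γ(tilde M, D f) := by
      have h1 := isFiniteType_toFinite hFM hW
      have h2 : V.ι ''ᵁ (V.ι ⁻¹ᵁ D f) = D f := by
        rw [V.ι.image_preimage_eq_opensRange_inf, Scheme.Opens.opensRange_ι, inf_eq_right.2 hle]
      rw [← h2]
      exact finite_of_restrict V.ι (tilde M) _ h1
    obtain ⟨T, hT⟩ := hfin.fg_top
    choose n m hm using exists_pow_smul_eq_toOpen M f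
    refine ⟨T.image m, fun z => ?_⟩
    have hz : z ∈ Submodule.span Γ(Spec R, D f)
        (T : Set Γ(tilde M, D f)) := hT ▸ Submodule.mem_top
    refine Submodule.span_le.2 (fun a ha => ?_) hz
    have hu : IsUnit (algebraMap R Γ(Spec R, D f) f) :=
      IsLocalization.Away.algebraMap_isUnit f
    obtain ⟨v, hv⟩ := (hu.pow (n a)).exists_left_inv
    have h3 : a = v • (f ^ n a • a) := by
      rw [← IsScalarTower.algebraMap_smul Γ(Spec R, D f) (f ^ n a) a, map_pow,
        smul_smul, hv, one_smul]
    rw [SetLike.mem_coe, h3, hm]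
    exact Submodule.smul_mem _ _ (Submodule.subset_span
      ⟨_, Finset.mem_image_of_mem _ ha, rfl⟩)
  choose S hS using key
  let G : Finset M := t.attach.biUnion fun f => S f.1 f.2
  let N : ModuleCat.{u} R := ModuleCat.of R (Submodule.span R (G : Set M))
  let i : N ⟶ M := ModuleCat.ofHom (Submodule.span R (G : Set M)).subtype
  haveI hNfin : Module.Finite R N := Module.Finite.iff_fg.2 ⟨G, rfl⟩
  haveI : Mono i := (ModuleCat.mono_iff_injective i).2 Subtype.val_injective
  haveI : Mono (tilde.map i) := mono_tilde_map i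
  haveI := mono_restrictMap (V := V) (tilde.map i)
  have hFN : Coh.IsCoh ((tilde N).restrict V.ι) := isCoh_restrict V.ι (isCoh_tilde N)
  let U : {f // f ∈ t} → (V : Scheme.{u}).Opens := fun f => V.ι ⁻¹ᵁ D f.1
  have hUimg : ∀ f, V.ι ''ᵁ U f = D f.1 := fun f => by
    rw [V.ι.image_preimage_eq_opensRange_inf, Scheme.Opens.opensRange_ι,
      inf_eq_right.2 (ht ▸ Finset.le_sup f.2 :)]
  haveI : IsIso ((Scheme.Modules.restrictFunctor V.ι).map (tilde.map i)) := by
    refine isIso_of_app_surjective _ hFN.1 hFM.1 U (fun f => ?_) (fun x => ?_) fun f => ?_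
    · rw [← V.ι.isAffineOpen_iff_of_isOpenImmersion, hUimg]
      exact IsAffineOpen.Spec_basicOpen f.1
    · have hx : (V.ι x) ∈ t.sup fun f => D f := ht.ge x.2
      rw [Finset.sup_eq_iSup] at hx
      obtain ⟨f, hx⟩ := Opens.mem_iSup.1 hx
      obtain ⟨hf, hx⟩ := Opens.mem_iSup.1 hx
      exact ⟨⟨f, hf⟩, hx⟩
    · refine app_restrictMap_surjective _ _ ?_
      rw [hUimg]
      intro z
      have hz := hS f.1 f.2 z
      let φ := appL (tilde.map i) (D f.1)
      have hle : Submodule.span _ ((fun m => (show Γ(tilde M, D f.1) from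
          tilde.toOpen M (D f.1) m)) '' (S f.1 f.2 : Set M)) ≤ LinearMap.range φ := by
        refine Submodule.span_le.2 ?_
        rintro _ ⟨m, hm, rfl⟩
        have hmN : m ∈ Submodule.span R (G : Set M) := Submodule.subset_span
          (Finset.mem_biUnion.2 ⟨⟨f.1, f.2⟩, Finset.mem_attach _ _, hm⟩)
        exact ⟨tilde.toOpen N _ (⟨m, hmN⟩ : N),
          ConcreteCategory.congr_hom (tilde.toOpen_map_app i (D f.1)) _⟩
      exact hle hz
  exact ⟨N, hNfin, ⟨e ≪≫ (asIso ((Scheme.Modules.restrictFunctor V.ι).map (tilde.map i))).symm⟩⟩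

end Extension

end Groth.Agent.QCohBase

namespace Groth.Agent.QCohBase

open CategoryTheory Limits AlgebraicGeometry

/-- The tilde functor is exact. -/
theorem tilde_exact (R : CommRingCat.{u}) :
    PreservesFiniteLimits (tilde.functor R) ∧ PreservesFiniteColimits (tilde.functor R) := by
  haveI hc : PreservesFiniteColimits (tilde.functor R) := inferInstance
  refine ⟨?_, hc⟩
  refine ((Functor.preservesFiniteLimits_tfae (tilde.functor R)).out 0 3 rfl rfl).1 fun S hS => ?_
  haveI : Mono S.f := hS.mono_f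
  exact ⟨(((Functor.preservesFiniteColimits_tfae (tilde.functor R)).out 3 0 rfl rfl).1 hc S hS).1,
    mono_tilde_map S.f⟩

end Groth.Agent.QCohBase
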