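import Groth.Agent.QCohBase.CohProps
import Groth.Prelude.Def_CohB1

/-!
# Supports of modules
-/

noncomputable section

universe u

open CategoryTheory Limits AlgebraicGeometry Opposite TopologicalSpace

namespace Groth.Agent.QCohBase

variable {X : Scheme.{u}}

/-- The stalk functor. -/
abbrev stalkAt (X : Scheme.{u}) (x : X) : X.Modules ⥤ AddCommGrpCat.{u} :=
  Scheme.Modules.toPresheaf X ⋙ TopCat.Presheaf.stalkFunctor AddCommGrpCat.{u} x

lemma subsingleton_restrict_stalk_iff {Y : Scheme.{u}} (f : Y ⟶ X) [IsOpenImmersion f]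
    (M : X.Modules) (y : Y) :
    Subsingleton ((M.restrict f).presheaf.stalk y) ↔ Subsingleton (M.presheaf.stalk (f y)) :=
  ((Scheme.Modules.restrictStalkNatIso f y).app M).addCommGroupIsoToAddEquiv.toEquiv.subsingleton_congr

lemma subsingleton_stalk_of_isZero {M : X.Modules} (h : IsZero M) (x : X) :
    Subsingleton (M.presheaf.stalk x) :=
  AddCommGrpCat.subsingleton_of_isZero (G := (stalkAt X x).obj M)
    (Functor.map_isZero (stalkAt X x) h)

/-- A map out of the unit whose section vanishes on an open restricts to zero there. -/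
lemma restrictFunctor_map_eq_zero {M : X.Modules}
    (ψ : (SheafOfModules.unit X.ringCatSheaf : X.Modules) ⟶ M) (V : X.Opens)
    (h : mres M (le_top : V ≤ ⊤) (Scheme.Modules.Hom.app ψ ⊤ (1 : Γ(X, ⊤))) = 0) :
    (Scheme.Modules.restrictFunctor V.ι).map ψ = 0 := by
  refine Scheme.Modules.hom_ext _ _ fun O => ?_
  ext r
  change Scheme.Modules.Hom.app ψ (V.ι ''ᵁ O) r = 0
  have hO : V.ι ''ᵁ O ≤ V := V.ι_image_le O
  have hr : (r : Γ((SheafOfModules.unit X.ringCatSheaf : X.Modules), V.ι ''ᵁ O)) =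
      (show Γ(X, V.ι ''ᵁ O) from r) • mres (SheafOfModules.unit X.ringCatSheaf : X.Modules)
        (le_top : V.ι ''ᵁ O ≤ ⊤) (1 : Γ(X, ⊤)) := by
    change _ = (show Γ(X, V.ι ''ᵁ O) from r) *
      X.presheaf.map (homOfLE (le_top : V.ι ''ᵁ O ≤ ⊤)).op 1
    rw [map_one, mul_one]
  rw [hr, Scheme.Modules.Hom.app_smul, ← app_nat, ← mres_mres M (le_top : V ≤ ⊤) hO, h, map_zero,
    smul_zero]

/-- If finitely many generating sections have vanishing germs at a point, the module vanishes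
near that point. -/
lemma exists_nhds_subsingleton_stalk {M : X.Modules} (G : M.GeneratingSections) [Finite G.I]
    (x : X) (hx : Subsingleton (M.presheaf.stalk x)) :
    ∃ V : X.Opens, x ∈ V ∧ ∀ y ∈ V, Subsingleton (M.presheaf.stalk y) := by
  classical
  cases nonempty_fintype G.I
  let ψ : G.I → ((SheafOfModules.unit X.ringCatSheaf : X.Modules) ⟶ M) :=
    fun k => SheafOfModules.ιFree k ≫ G.π
  have : ∀ k, ∃ V : X.Opens, x ∈ V ∧ mres M (le_top : V ≤ ⊤) (Scheme.Modules.Hom.app (ψ k) ⊤ (1 : Γ(X, ⊤))) = 0 := by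
    intro k
    obtain ⟨W, hxW, i₁, i₂, he⟩ := TopCat.Presheaf.germ_eq M.presheaf x (Opens.mem_top x)
      (Opens.mem_top x) (Scheme.Modules.Hom.app (ψ k) ⊤ (1 : Γ(X, ⊤))) 0 (Subsingleton.elim _ _)
    exact ⟨W, hxW, he.trans (map_zero _)⟩
  choose V hxV hV using this
  let V₀ : X.Opens := Finset.univ.inf V
  have hxV₀ : x ∈ V₀ := (Finset.inf_induction (s := Finset.univ) (f := V) (p := fun U => x ∈ U)
    (Opens.mem_top x) (fun a ha b hb => ⟨ha, hb⟩) fun k _ => hxV k)
  let F := Scheme.Modules.restrictFunctor V₀.ι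
  haveI : PreservesColimitsOfSize.{u, u} F := inferInstance
  have hπ : F.map G.π = 0 := by
    refine Cofan.IsColimit.hom_ext
      (isColimitCofanMkObjOfIsColimit F _ _ (SheafOfModules.isColimitFreeCofan G.I)) _ _ fun k => ?_
    change F.map (SheafOfModules.ιFree k) ≫ F.map G.π = F.map (SheafOfModules.ιFree k) ≫ 0
    rw [comp_zero, ← F.map_comp]
    refine restrictFunctor_map_eq_zero (ψ k) V₀ ?_
    rw [← mres_mres M (le_top : V k ≤ ⊤) (Finset.inf_le (Finset.mem_univ k)), hV, map_zero]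
  have hepi : Epi (F.map G.π) := by
    haveI : Epi (G.π : (SheafOfModules.free G.I : X.Modules) ⟶ M) := @SheafOfModules.GeneratingSections.epi _ _ _ _ _ _ _ G
    exact @Functor.map_epi _ _ _ _ F _ _ _ _ this
  have hz : IsZero (F.obj M) := @IsZero.of_epi_eq_zero _ _ _ _ _ (F.map G.π) hepi hπ
  exact ⟨V₀, hxV₀, fun y hy => (subsingleton_restrict_stalk_iff V₀.ι M ⟨y, hy⟩).1
    (subsingleton_stalk_of_isZero hz _)⟩

/-- The support of a module of finite type is closed. -/
theorem isClosed_support (M : X.Modules) (hM : CohB1.IsFT M) : IsClosed (CohB1.support M) := by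
  rw [← isOpen_compl_iff, isOpen_iff_forall_mem_open]
  intro x hx
  have hx' : Subsingleton (M.presheaf.stalk x) := not_not.1 hx
  obtain ⟨σ, hσ⟩ := hM
  have hcov : iSup σ.X = ⊤ := (Opens.coversTop_iff _ _).1 σ.coversTop
  obtain ⟨i, hi⟩ := Opens.mem_iSup.1 (hcov.ge (Opens.mem_top x))
  let W : X.Opens := σ.X i
  let F : SheafOfModules.{u} (X.ringCatSheaf.over W) ⥤
      SheafOfModules.{u} ((W : Scheme.{u})).ringCatSheaf :=
    (Scheme.Modules.overEquiv W).functor
  haveI : PreservesColimitsOfSize.{u, u} F :=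
    inferInstanceAs (PreservesColimitsOfSize.{u, u} (Scheme.Modules.overEquiv W).functor)
  let iso : SheafOfModules.overFunctor X.ringCatSheaf W ⋙ F ≅
      Scheme.Modules.restrictFunctor W.ι := Scheme.Modules.overFunctorEquiv W
  let η : SheafOfModules.unit (W : Scheme.{u}).ringCatSheaf ≅
      F.obj (SheafOfModules.unit (X.ringCatSheaf.over W)) :=
    (iso.app (SheafOfModules.unit X.ringCatSheaf) ≪≫ Scheme.Modules.restrictUnitIso W.ι).symm
  let G := ((σ.generators i).map F η).ofEpi (iso.app M).hom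
  haveI : Finite G.I := (hσ.isFiniteType i).finite
  obtain ⟨V, hxV, hV⟩ := exists_nhds_subsingleton_stalk (M := M.restrict W.ι) G (⟨x, hi⟩ : W)
    ((subsingleton_restrict_stalk_iff W.ι M _).2 hx')
  refine ⟨((W.ι ''ᵁ V : X.Opens) : Set X), ?_, (W.ι ''ᵁ V).2, ⟨⟨x, hi⟩, hxV, rfl⟩⟩
  rintro _ ⟨y, hy, rfl⟩
  exact not_not.2 ((subsingleton_restrict_stalk_iff W.ι M y).1 (hV y hy))

end Groth.Agent.QCohBase
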