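import Mathlib.AlgebraicGeometry.Morphisms.QuasiSeparated

/-!
# The induction principle for quasi-compact quasi-separated schemes
-/

noncomputable section

universe u

open CategoryTheory AlgebraicGeometry TopologicalSpace

namespace Groth.Agent.QCohBase

variable {X : Scheme.{u}}

lemma exists_finset_basicOpen_eq {A W : X.Opens} (hA : IsAffineOpen A) (hW : IsCompact (W : Set X))
    (h : W ≤ A) : ∃ s : Finset Γ(X, A), W = ⨆ g ∈ s, X.basicOpen g := by
  classical
  have key : ∀ x : W, ∃ g : Γ(X, A), X.basicOpen g ≤ W ∧ x.1 ∈ X.basicOpen g := fun x =>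
    hA.exists_basicOpen_le x (h x.2)
  choose g hle hmem using key
  obtain ⟨t, ht⟩ := hW.elim_finite_subcover (fun x : W => (X.basicOpen (g x) : Set X))
    (fun x => (X.basicOpen (g x)).2) (fun x hx => Set.mem_iUnion.2 ⟨⟨x, hx⟩, hmem ⟨x, hx⟩⟩)
  refine ⟨t.image g, le_antisymm (fun x hx => ?_) ?_⟩
  · obtain ⟨j, hj, hxj⟩ := Set.mem_iUnion₂.1 (ht hx)
    exact Opens.mem_iSup.2 ⟨g j, Opens.mem_iSup.2 ⟨Finset.mem_image_of_mem g hj, hxj⟩⟩
  · refine iSup₂_le fun c hc => ?_
    obtain ⟨j, -, rfl⟩ := Finset.mem_image.1 hc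
    exact hle j

/-- Compact opens contained in an affine open. -/
theorem induction_in_affine {P : X.Opens → Prop} (h₁ : ∀ U, IsAffineOpen U → P U)
    (h₂ : ∀ U V : X.Opens, IsCompact (U : Set X) → IsAffineOpen V → P U → P V → P (U ⊓ V) →
      P (U ⊔ V))
    {A W : X.Opens} (hA : IsAffineOpen A) (hW : IsCompact (W : Set X)) (h : W ≤ A) : P W := by
  classical
  obtain ⟨s, rfl⟩ := exists_finset_basicOpen_eq hA hW h
  suffices ∀ n, ∀ s : Finset Γ(X, A), s.card ≤ n → P (⨆ g ∈ s, X.basicOpen g) from this _ s le_rfl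
  intro n
  induction n with
  | zero =>
    intro s hs
    rw [Finset.card_eq_zero.1 (Nat.le_zero.1 hs)]
    simpa using h₁ ⊥ (isAffineOpen_bot X)
  | succ n ih =>
    intro s hs
    rcases s.eq_empty_or_nonempty with rfl | ⟨g, hg⟩
    · simpa using h₁ ⊥ (isAffineOpen_bot X)
    obtain ⟨t, hgt, rfl⟩ : ∃ t, g ∉ t ∧ insert g t = s :=
      ⟨s.erase g, Finset.notMem_erase g s, Finset.insert_erase hg⟩
    rw [Finset.card_insert_of_notMem hgt] at hs
    have hU : IsCompact ((⨆ c ∈ t, X.basicOpen c : X.Opens) : Set X) := by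
      simp only [Opens.coe_iSup]
      exact t.isCompact_biUnion fun c _ => (hA.basicOpen c).isCompact
    rw [Finset.iSup_insert, sup_comm]
    refine h₂ _ _ hU (hA.basicOpen g) (ih t (by omega)) (h₁ _ (hA.basicOpen g)) ?_
    have : (⨆ c ∈ t, X.basicOpen c) ⊓ X.basicOpen g =
        ⨆ c ∈ t.image (fun c => c * g), X.basicOpen c := by
      simp only [iSup_inf_eq, Finset.iSup_finset_image, Scheme.basicOpen_mul]
    rw [this]
    exact ih _ (Finset.card_image_le.trans (by omega))

/-- The induction principle. -/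
theorem qcqs_induction [QuasiSeparatedSpace X] (P : X.Opens → Prop)
    (h₁ : ∀ U : X.Opens, IsAffineOpen U → P U)
    (h₂ : ∀ U V : X.Opens, IsCompact (U : Set X) → IsAffineOpen V → P U → P V → P (U ⊓ V) →
      P (U ⊔ V))
    (U : X.Opens) (hU : IsCompact (U : Set X)) : P U := by
  suffices IsCompact (U : Set X) ∧ P U from this.2
  refine compact_open_induction_on (P := fun U => IsCompact (U : Set X) ∧ P U) U hU ?_ ?_
  · exact ⟨by simp, h₁ ⊥ (isAffineOpen_bot X)⟩
  · rintro S hS V ⟨-, hPS⟩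
    have hc : IsCompact ((S ⊓ V : X.Opens) : Set X) :=
      QuasiSeparatedSpace.inter_isCompact _ _ S.2 hS V.1.2 V.2.isCompact
    exact ⟨hS.union V.2.isCompact, h₂ _ _ hS V.2 hPS (h₁ _ V.2)
      (induction_in_affine h₁ h₂ V.2 hc inf_le_right)⟩

end Groth.Agent.QCohBase
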