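import Groth.Agent.QCohBase.Union
import Groth.Agent.QCohBase.Acyclic
import Groth.Agent.QCohBase.Induction

/-!
# Uniform vanishing of cohomology on qcqs schemes
-/

noncomputable section

universe u

open CategoryTheory Limits TopologicalSpace Opposite AlgebraicGeometry

namespace Groth.Agent.QCohBase

/-- Surjectivity on sections over `W` of the injective presentation of `F`. -/
def CovSystem.SurjAt {X : TopCat.{u}} (F : AbSheaf X) (W : Opens X) : Prop :=
  Function.Surjective ((CovSystem.injSeq F).g.hom.app (op W))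

lemma CovSystem.surjAt_sup {X : TopCat.{u}} {F : AbSheaf X} {V U : Opens X}
    (hI : CovSystem.SurjAt F (V ⊓ U)) (hV : CovSystem.SurjAt (CovSystem.injSeq F).X₃ V)
    (hU : CovSystem.SurjAt (CovSystem.injSeq F).X₃ U) :
    CovSystem.SurjAt (CovSystem.injSeq F).X₃ (V ⊔ U) := by
  intro r
  let T := CovSystem.injSeq (CovSystem.injSeq F).X₃
  obtain ⟨a, ha⟩ := hV (res T.X₃.obj le_sup_left r)
  obtain ⟨b, hb⟩ := hU (res T.X₃.obj le_sup_right r)
  have hd0 : T.g.hom.app (op (V ⊓ U)) (res T.X₂.obj inf_le_left a - res T.X₂.obj inf_le_right b) = 0 := by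
    rw [map_sub, ← nat_res T.X₂.obj T.g.hom, ← nat_res T.X₂.obj T.g.hom, ha, hb, res_res, res_res,
      sub_self]
  have hT := CovSystem.injSeq_shortExact (CovSystem.injSeq F).X₃
  obtain ⟨q, hq⟩ := TopCat.Sheaf.sections_exact_of_left_exact hT.exact hT.mono_f _ hd0
  obtain ⟨i, hi⟩ := hI q
  obtain ⟨i', rfl⟩ := injective_res_surjective (CovSystem.injSeq F).X₂ (inf_le_right : V ⊓ U ≤ U) i
  let b' := b + T.f.hom.app (op U) ((CovSystem.injSeq F).g.hom.app (op U) i')
  have hab : res T.X₂.obj inf_le_left a = res T.X₂.obj (inf_le_right : V ⊓ U ≤ U) b' := by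
    rw [map_add, nat_res T.X₁.obj T.f.hom]
    change _ = _ + T.f.hom.app (op (V ⊓ U))
      (res (CovSystem.injSeq F).X₃.obj inf_le_right ((CovSystem.injSeq F).g.hom.app (op U) i'))
    rw [nat_res (CovSystem.injSeq F).X₂.obj (CovSystem.injSeq F).g.hom, hi, hq, add_sub_cancel]
  have hb' : T.g.hom.app (op U) b' = res T.X₃.obj le_sup_right r := by
    have : T.g.hom.app (op U) (T.f.hom.app (op U) ((CovSystem.injSeq F).g.hom.app (op U) i')) = 0 := by
      rw [← ConcreteCategory.comp_apply, ← NatTrans.comp_app,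
        ← ObjectProperty.FullSubcategory.comp_hom, T.zero]
      rfl
    rw [map_add, hb, this, add_zero]
  let Vf : Bool → Opens X := fun k => if k then V else U
  let sf : ∀ k, T.X₂.obj.obj (op (Vf k)) := fun k =>
    match k with
    | true => a
    | false => b'
  have hc : TopCat.Presheaf.IsCompatible T.X₂.obj Vf sf := by
    rintro (_ | _) (_ | _)
    · rfl
    · exact ((congrArg (res T.X₂.obj (show U ⊓ V ≤ V ⊓ U from inf_comm U V ▸ le_rfl)) hab).symm.trans
        (res_res T.X₂.obj _ _ _)).trans rfl |> fun h => (res_res T.X₂.obj _ _ _).symm.trans h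
    · exact hab
    · rfl
  have hcov : V ⊔ U ≤ ⨆ k, Vf k := sup_le (le_iSup Vf true) (le_iSup Vf false)
  have hle : ∀ k, Vf k ≤ V ⊔ U := fun k => by cases k; exacts [le_sup_right, le_sup_left]
  obtain ⟨s, hs, -⟩ := TopCat.Sheaf.existsUnique_gluing' T.X₂ Vf _ (fun k => homOfLE (hle k))
    hcov sf hc
  refine ⟨s, TopCat.Sheaf.eq_of_locally_eq' T.X₃ Vf _ (fun k => homOfLE (hle k)) hcov _ _ fun k => ?_⟩
  change res T.X₃.obj (hle k) (T.g.hom.app _ s) = res T.X₃.obj (hle k) r
  rw [nat_res T.X₂.obj T.g.hom, show res T.X₂.obj (hle k) s = sf k from hs k]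
  cases k
  · exact hb'
  · exact ha


/-- On a qcqs scheme there is, for each quasi-compact open, a bound beyond which all cosyzygies
of acyclic sheaves are exact on sections. -/
lemma exists_surjAt_bound (X : Scheme.{u}) [QuasiSeparatedSpace X] (W : X.Opens)
    (hW : IsCompact (W : Set X)) : ∃ t, ∀ n, t ≤ n → ∀ F : AbSheaf X.toTopCat,
      (affineSystem X).Acyclic F → CovSystem.SurjAt (CovSystem.cosyzygy F n) W := by
  refine qcqs_induction (P := fun W => ∃ t, ∀ n, t ≤ n → ∀ F : AbSheaf X.toTopCat,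
      (affineSystem X).Acyclic F → CovSystem.SurjAt (CovSystem.cosyzygy F n) W) ?_ ?_ W hW
  · exact fun U hU => ⟨0, fun n _ F hF => CovSystem.sections_surjective
      (CovSystem.injSeq_shortExact _) (CovSystem.acyclic_cosyzygy hF n) hU⟩
  · rintro U V _ _ ⟨a, ha⟩ ⟨b, hb⟩ ⟨c, hc⟩
    refine ⟨max (max a b) c + 1, fun n hn F hF => ?_⟩
    obtain ⟨m, rfl⟩ : ∃ m, n = m + 1 := ⟨n - 1, by omega⟩
    exact CovSystem.surjAt_sup (hc m (by omega) F hF) (ha (m + 1) (by omega) F hF)
      (hb (m + 1) (by omega) F hF)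

theorem exists_bound_subsingleton_HH (X : Scheme.{u}) [CompactSpace X] [QuasiSeparatedSpace X] :
    ∃ d : ℕ, ∀ (M : X.Modules), Coh.IsQCoh M → ∀ p : ℕ, d ≤ p → Subsingleton (Coh.HH X M p) := by
  obtain ⟨t, ht⟩ := exists_surjAt_bound X ⊤ (by simpa using isCompact_univ)
  refine ⟨t + 1, fun M hM p hp => ?_⟩
  obtain ⟨q, rfl⟩ : ∃ q, p = q + 1 := ⟨p - 1, by omega⟩
  haveI : Coh.IsQCoh M := hM
  exact CovSystem.subsingleton_H_of_cosyzygy q (ht q (by omega) _ (acyclic_of_isQCoh M))

end Groth.Agent.QCohBase
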