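import Groth.Agent.QCohBase.Criterion

/-!
# Vanishing of cohomology above the number of acyclic opens
-/

noncomputable section

universe u

open CategoryTheory Limits TopologicalSpace Opposite

namespace Groth.Agent.QCohBase

variable {X : TopCat.{u}}

lemma injective_res_surjective (I : AbSheaf X) [Injective I] {V W : Opens X} (h : W ≤ V) :
    Function.Surjective (res I.obj h) := by
  classical
  intro s
  let G := piSheaf fun x : X => TopCat.Presheaf.stalk I.obj x
  let ρ : G ⟶ I := Injective.factorThru (𝟙 I) (toGodement I)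
  let t : G.obj.obj (op V) := fun x =>
    if hx : x.1 ∈ W then (toGodement I).hom.app (op W) s ⟨x.1, hx⟩ else 0
  refine ⟨ρ.hom.app (op V) t, ?_⟩
  have ht : res G.obj h t = (toGodement I).hom.app (op W) s := funext fun x => dif_pos x.2
  rw [nat_res G.obj ρ.hom h t, ht, ← ConcreteCategory.comp_apply, ← NatTrans.comp_app,
    ← ObjectProperty.FullSubcategory.comp_hom]
  exact ConcreteCategory.congr_hom (congrArg (fun m : I ⟶ I => m.hom.app (op W))
    (Injective.comp_factorThru (𝟙 I) (toGodement I))) s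

namespace CovSystem

variable (S : CovSystem X)

/-- Opens which are unions of at most `t + 1` members of `B`. -/
def UnionLE : ℕ → Opens X → Prop
  | 0, W => S.B W
  | t + 1, W => UnionLE t W ∨ ∃ V U, UnionLE t V ∧ S.B U ∧ W = V ⊔ U

variable {S}

lemma unionLE_inf (hd : ∀ V W, S.B V → S.B W → S.B (V ⊓ W)) {U : Opens X} (hU : S.B U) :
    ∀ {t : ℕ} {V : Opens X}, S.UnionLE t V → S.UnionLE t (V ⊓ U)
  | 0, _, h => hd _ _ h hU
  | _ + 1, _, Or.inl h => Or.inl (unionLE_inf hd hU h)
  | _ + 1, _, Or.inr ⟨V', U', hV', hU', e⟩ =>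
    Or.inr ⟨V' ⊓ U, U' ⊓ U, unionLE_inf hd hU hV', hd _ _ hU' hU, by rw [e, inf_sup_right]⟩

lemma unionLE_iSup : ∀ {t : ℕ} (U : Fin (t + 1) → Opens X), (∀ i, S.B (U i)) →
    S.UnionLE t (⨆ i, U i) := by
  intro t
  induction t with
  | zero =>
    intro U h
    rw [show (⨆ i, U i) = U 0 from le_antisymm (iSup_le fun i => by fin_cases i; exact le_rfl) (le_iSup U 0)]
    exact h 0
  | succ t ih =>
    intro U h
    refine Or.inr ⟨⨆ i : Fin (t + 1), U i.castSucc, U (Fin.last _), ih _ (fun i => h _), h _, ?_⟩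
    exact le_antisymm (iSup_le fun i => by
      induction i using Fin.lastCases with
      | last => exact le_sup_right
      | cast i => exact le_sup_of_le_left (le_iSup (fun j : Fin (t + 1) => U j.castSucc) i))
      (sup_le (iSup_le fun i => le_iSup U i.castSucc) (le_iSup U _))

variable (S)

/-- Sections over opens in `UnionLE t` are exact on the injective presentation of `F`. -/
def SurjOn (t : ℕ) (F : AbSheaf X) : Prop :=
  ∀ W, S.UnionLE t W → Function.Surjective ((injSeq F).g.hom.app (op W))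

variable {S}

lemma surjOn_succ (hd : ∀ V W, S.B V → S.B W → S.B (V ⊓ W)) {t : ℕ} {F : AbSheaf X}
    (hF : S.SurjOn t F) (hQ : S.SurjOn t (injSeq F).X₃) (hQ0 : S.SurjOn 0 (injSeq F).X₃) :
    S.SurjOn (t + 1) (injSeq F).X₃ := by
  intro W hW
  obtain hW | ⟨V, U, hV, hU, rfl⟩ := hW
  · exact hQ W hW
  intro r
  let T := injSeq (injSeq F).X₃
  obtain ⟨a, ha⟩ := hQ V hV (res T.X₃.obj le_sup_left r)
  obtain ⟨b, hb⟩ := hQ0 U hU (res T.X₃.obj le_sup_right r)
  have hd0 : T.g.hom.app (op (V ⊓ U)) (res T.X₂.obj inf_le_left a - res T.X₂.obj inf_le_right b) = 0 := by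
    rw [map_sub, ← nat_res T.X₂.obj T.g.hom, ← nat_res T.X₂.obj T.g.hom, ha, hb, res_res, res_res,
      sub_self]
  have hT := injSeq_shortExact (injSeq F).X₃
  obtain ⟨q, hq⟩ := TopCat.Sheaf.sections_exact_of_left_exact hT.exact hT.mono_f _ hd0
  obtain ⟨i, hi⟩ := hF (V ⊓ U) (unionLE_inf hd hU hV) q
  obtain ⟨i', rfl⟩ := injective_res_surjective (injSeq F).X₂ (inf_le_right : V ⊓ U ≤ U) i
  let b' := b + T.f.hom.app (op U) ((injSeq F).g.hom.app (op U) i')
  have hab : res T.X₂.obj inf_le_left a = res T.X₂.obj (inf_le_right : V ⊓ U ≤ U) b' := by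
    rw [map_add, nat_res T.X₁.obj T.f.hom]
    change _ = _ + T.f.hom.app (op (V ⊓ U))
      (res (injSeq F).X₃.obj inf_le_right ((injSeq F).g.hom.app (op U) i'))
    rw [nat_res (injSeq F).X₂.obj (injSeq F).g.hom, hi, hq, add_sub_cancel]
  have hb' : T.g.hom.app (op U) b' = res T.X₃.obj le_sup_right r := by
    have : T.g.hom.app (op U) (T.f.hom.app (op U) ((injSeq F).g.hom.app (op U) i')) = 0 := by
      rw [← ConcreteCategory.comp_apply, ← NatTrans.comp_app,
        ← ObjectProperty.FullSubcategory.comp_hom, T.zero]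
      rfl
    rw [map_add, hb, this, add_zero]
  let Vf : Bool → Opens X := fun k => if k then V else U
  let sf : ∀ k, T.X₂.obj.obj (op (Vf k)) := fun k =>
    match k with
    | true => a
    | false => b'
  have hc : TopCat.Presheaf.IsCompatible T.X₂.obj Vf sf := by
    rintro (_ | _) (_ | _)
    · rfl
    · exact ((congrArg (res T.X₂.obj (show U ⊓ V ≤ V ⊓ U from inf_comm U V ▸ le_rfl)) hab).symm.trans
        (res_res T.X₂.obj _ _ _)).trans rfl |> fun h => (res_res T.X₂.obj _ _ _).symm.trans h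
    · exact hab
    · rfl
  have hcov : V ⊔ U ≤ ⨆ k, Vf k := sup_le (le_iSup Vf true) (le_iSup Vf false)
  have hle : ∀ k, Vf k ≤ V ⊔ U := fun k => by cases k; exacts [le_sup_right, le_sup_left]
  obtain ⟨s, hs, -⟩ := TopCat.Sheaf.existsUnique_gluing' T.X₂ Vf _ (fun k => homOfLE (hle k))
    hcov sf hc
  refine ⟨s, TopCat.Sheaf.eq_of_locally_eq' T.X₃ Vf _ (fun k => homOfLE (hle k)) hcov _ _ fun k => ?_⟩
  change res T.X₃.obj (hle k) (T.g.hom.app _ s) = res T.X₃.obj (hle k) r
  rw [nat_res T.X₂.obj T.g.hom, show res T.X₂.obj (hle k) s = sf k from hs k]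
  cases k
  · exact hb'
  · exact ha

/-- The iterated cosyzygy. -/
def cosyzygy (F : AbSheaf X) : ℕ → AbSheaf X
  | 0 => F
  | n + 1 => (injSeq (cosyzygy F n)).X₃

lemma acyclic_cosyzygy {F : AbSheaf X} (hF : S.Acyclic F) : ∀ n, S.Acyclic (cosyzygy F n)
  | 0 => hF
  | n + 1 => acyclic_cokernel (injSeq_shortExact _) (acyclic_cosyzygy hF n)

lemma surjOn_cosyzygy (hd : ∀ V W, S.B V → S.B W → S.B (V ⊓ W)) {F : AbSheaf X}
    (hF : S.Acyclic F) : ∀ t n, t ≤ n → S.SurjOn t (cosyzygy F n)
  | 0, n, _ => fun _ hW => sections_surjective (injSeq_shortExact _) (acyclic_cosyzygy hF n) hW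
  | t + 1, n + 1, h => surjOn_succ hd (surjOn_cosyzygy hd hF t n (by omega))
      (surjOn_cosyzygy hd hF t (n + 1) (by omega))
      (fun _ hW => sections_surjective (injSeq_shortExact _) (acyclic_cosyzygy hF (n + 1)) hW)

lemma subsingleton_H_of_cosyzygy {F : AbSheaf X} (n : ℕ)
    (h : Function.Surjective ((injSeq (cosyzygy F n)).g.hom.app (op ⊤))) :
    Subsingleton (HTop F (n + 1)) := by
  suffices ∀ k m, k + m = n → Subsingleton (HTop (cosyzygy F m) (k + 1)) from this n 0 (add_zero n)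
  intro k
  induction k with
  | zero =>
    rintro m hm
    obtain rfl : m = n := by omega
    refine subsingleton_of_forall_eq 0 fun x => ?_
    obtain ⟨y, rfl⟩ := hDelta_surjective (injSeq_shortExact _) 0 x
    obtain ⟨s, rfl⟩ := (hZero _).symm.surjective y
    exact (hDelta_zero_iff _ _).2 (h s)
  | succ k ih =>
    intro m hm
    have : Subsingleton (HTop (injSeq (cosyzygy F m)).X₃ (k + 1)) := ih (m + 1) (by omega)
    exact Function.Surjective.subsingleton (hDelta_surjective (injSeq_shortExact (cosyzygy F m)) (k + 1))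

theorem subsingleton_H_of_union (hd : ∀ V W, S.B V → S.B W → S.B (V ⊓ W)) {F : AbSheaf X}
    (hF : S.Acyclic F) {t : ℕ} (hX : S.UnionLE t ⊤) (n : ℕ) (hn : t ≤ n) :
    Subsingleton (HTop F (n + 1)) :=
  subsingleton_H_of_cosyzygy n (surjOn_cosyzygy hd hF t n hn ⊤ hX)

end CovSystem

end Groth.Agent.QCohBase
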