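import Groth.Prelude.Def_CohB1
import Groth.Agent.QCohBase.Acyclic
import Mathlib.Algebra.Category.Grp.Biproducts

/-!
# Comparison of the concrete Cech complex with Mathlib's
-/

noncomputable section

universe u

open CategoryTheory Limits AlgebraicGeometry Opposite TopologicalSpace AlgebraicTopology Simplicial

namespace Groth.Agent.QCohBase

variable {X : TopCat.{u}} {ι : Type u} (U : ι → Opens X) (P : TopCat.Presheaf AddCommGrpCat.{u} X)

lemma inter_eq_prod {α : Type} [Finite α] (i : α → ι) :
    inter U i = ∏ᶜ (U ∘ i) :=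
  le_antisymm (leOfHom (Pi.lift fun a => homOfLE (iInf_le (fun b => U (i b)) a) :
      inter U i ⟶ ∏ᶜ (U ∘ i)))
    (le_iInf fun a => leOfHom (Pi.π (U ∘ i) a))

/-- The product in abelian groups is the type of families. -/
def grpPiIso {J : Type u} (f : J → AddCommGrpCat.{u}) : ∏ᶜ f ≅ AddCommGrpCat.of (∀ j, f j) :=
  IsLimit.conePointUniqueUpToIso (limit.isLimit _) (AddCommGrpCat.HasLimit.productLimitCone f).isLimit

lemma grpPiIso_hom_apply {J : Type u} (f : J → AddCommGrpCat.{u}) (x : (∏ᶜ f : AddCommGrpCat.{u}))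
    (j : J) : (grpPiIso f).hom x j = Pi.π f j x :=
  ConcreteCategory.congr_hom (IsLimit.conePointUniqueUpToIso_hom_comp (limit.isLimit _)
    (AddCommGrpCat.HasLimit.productLimitCone f).isLimit ⟨j⟩) x

lemma pi_map_π_apply {J : Type u} {f g : J → AddCommGrpCat.{u}} (e : ∀ j, f j ≅ g j) (j : J)
    (x : (∏ᶜ f : AddCommGrpCat.{u})) : Pi.π g j ((Pi.mapIso e).hom x) = (e j).hom (Pi.π f j x) :=
  ConcreteCategory.congr_hom (Pi.map_π (fun j => (e j).hom) j) x

lemma pi_lift_π_apply {J : Type u} {f : J → AddCommGrpCat.{u}} {A : AddCommGrpCat.{u}}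
    (h : ∀ j, A ⟶ f j) (j : J) (x : A) : Pi.π f j (Pi.lift h x) = h j x :=
  ConcreteCategory.congr_hom (limit.lift_π (Fan.mk A h) ⟨j⟩) x

/-- The comparison isomorphism of cosimplicial objects. -/
def cechCosimpIso :
    (FormalCoproduct.cosimplicialObjectFunctor (FormalCoproduct.mk _ U).cech).obj P ≅
      cechCosimp U P :=
  NatIso.ofComponents
    (fun n => Pi.mapIso (fun i => P.mapIso (eqToIso (congrArg op (inter_eq_prod U i).symm))) ≪≫
      grpPiIso fun i : Fin (n.len + 1) → ι => P.obj (op (inter U i)))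
    (fun {m n} g => by
      refine AddCommGrpCat.ext fun s => funext fun i => ?_
      refine (grpPiIso_hom_apply _ _ i).trans (Eq.trans ?_ (congrArg (res P (inter_comp_le U i g.toOrderHom))
        (grpPiIso_hom_apply (fun i : Fin (m.len + 1) → ι => P.obj (op (inter U i))) _ _).symm))
      refine (pi_map_π_apply _ i _).trans ?_
      refine (congrArg _ (pi_lift_π_apply _ i s)).trans ?_
      refine Eq.trans ?_ (congrArg (res P (inter_comp_le U i g.toOrderHom))
        (pi_map_π_apply
          (fun i : Fin (m.len + 1) → ι =>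
            P.mapIso (eqToIso (congrArg op (inter_eq_prod U i).symm))) (i ∘ g.toOrderHom) s).symm)
      rw [res]
      erw [← ConcreteCategory.comp_apply, ← ConcreteCategory.comp_apply, ← ConcreteCategory.comp_apply]
      refine ConcreteCategory.congr_hom ?_ s
      erw [Category.assoc, ← P.map_comp, ← P.map_comp]
      rfl)

/-- Mathlib's Cech complex is the concrete one. -/
def cechIso : (cechComplexFunctor U).obj P ≅ cech U P :=
  (alternatingCofaceMapComplex AddCommGrpCat.{u}).mapIso (cechCosimpIso U P)

/-- Cech cohomology of the prelude computed by the concrete complex. -/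
def cechHTopIso (p : ℕ) : CohB1.cechHTop U P p ≅ (cech U P).homology p :=
  (HomologicalComplex.homologyFunctor AddCommGrpCat.{u} (ComplexShape.up ℕ) p).mapIso (cechIso U P)

end Groth.Agent.QCohBase
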