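import Groth.Agent.QCohBase.Support

/-!
# Supports in short exact sequences
-/

noncomputable section

universe u

open CategoryTheory Limits AlgebraicGeometry Opposite TopologicalSpace

namespace Groth.Agent.QCohBase

variable {X : Scheme.{u}}

/-- The support of an extension of quasi-coherent modules. -/
theorem support_of_shortExact {E : ShortComplex X.Modules} (hE : E.ShortExact)
    (h₁ : E.X₁.IsQuasicoherent) (h₂ : E.X₂.IsQuasicoherent) (h₃ : E.X₃.IsQuasicoherent) :
    CohB1.support E.X₂ = CohB1.support E.X₁ ∪ CohB1.support E.X₃ := by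
  ext x
  obtain ⟨U, hU, hxU, -⟩ :=
    Opens.isBasis_iff_nbhd.1 X.isBasis_affineOpens (U := ⊤) (Opens.mem_top x)
  have := hE.mono_f
  have hex : Function.Exact (appL E.f U) (appL E.g U) := by
    intro s
    refine ⟨fun hs => ?_, ?_⟩
    · exact sections_exact_left hE.exact s hs
    · rintro ⟨t, rfl⟩
      change E.g.app U (E.f.app U t) = 0
      rw [← ConcreteCategory.comp_apply, ← Scheme.Modules.Hom.comp_app, E.zero]
      rfl
  have h := Module.support_of_exact hex (app_injective_of_mono E.f U)
    (sections_surjective_affine hE h₁ hU)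
  have h' := Set.ext_iff.1 h (hU.primeIdealOf ⟨x, hxU⟩)
  rw [Set.mem_union, mem_support_iff _ hU x hxU, mem_support_iff _ hU x hxU,
    mem_support_iff _ hU x hxU] at h'
  exact h'

end Groth.Agent.QCohBase
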