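import Groth.Agent.QCohBase.Finite
import Groth.Prelude.Def_CohB1
import Mathlib.Algebra.Module.FinitePresentation
import Mathlib.Algebra.Category.ModuleCat.Kernels

/-!
# Sections of finitely presented modules near a point
-/

noncomputable section

universe u

open CategoryTheory Limits AlgebraicGeometry Opposite TopologicalSpace

namespace Groth.Agent.QCohBase

/-- A finitely presented module on a spectrum has finitely presented global sections. -/
lemma finitePresentation_sections_of_presentation {R : CommRingCat.{u}} (M : (Spec R).Modules)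
    [IsIso M.fromTildeΓ] (P : M.Presentation) [Finite P.generators.I] [Finite P.relations.I] :
    Module.FinitePresentation R ((modulesSpecToSheaf.obj M).presheaf.obj (op ⊤) : ModuleCat.{u} R) := by
  let N : ModuleCat.{u} R := (modulesSpecToSheaf.obj M).presheaf.obj (op ⊤)
  let ι := P.generators.I
  let κ := P.relations.I
  let f := (kernel P.generators.π).freeHomEquiv.symm P.relations.s ≫ kernel.ι _
  let f' : tilde (ModuleCat.of R (κ →₀ R)) ⟶ tilde (ModuleCat.of R (ι →₀ R)) :=
    (tildeFinsupp κ).hom ≫ f ≫ (tildeFinsupp ι).inv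
  let φ : ModuleCat.of R (κ →₀ R) ⟶ ModuleCat.of R (ι →₀ R) := (tilde.functor R).preimage f'
  have hφ : (tilde.functor R).map φ = f' := (tilde.functor R).map_preimage _
  haveI : PreservesColimit (parallelPair φ 0) (tilde.functor R) :=
    (tilde.adjunction (R := R)).leftAdjoint_preservesColimits.preservesColimitsOfShape.preservesColimit
  let e₁ : (tilde.functor R).obj (cokernel φ) ≅ cokernel ((tilde.functor R).map φ) :=
    PreservesCokernel.iso (tilde.functor R) φ
  let e₂ : cokernel ((tilde.functor R).map φ) ≅ cokernel f :=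
    cokernel.mapIso _ _ (tildeFinsupp κ) (tildeFinsupp ι) (by
      rw [hφ]
      exact (Category.assoc _ _ _).trans (congrArg ((tildeFinsupp κ).hom ≫ ·)
        ((Category.assoc _ _ _).trans ((congrArg (f ≫ ·) (tildeFinsupp ι).inv_hom_id).trans
          (Category.comp_id f)))))
  let e₃ : cokernel f ≅ M := (colimit.isColimit _).coconePointUniqueUpToIso P.isColimit
  let e : (tilde.functor R).obj (cokernel φ) ≅ (tilde.functor R).obj N :=
    e₁ ≪≫ e₂ ≪≫ e₃ ≪≫ (asIso M.fromTildeΓ).symm
  have h : Module.FinitePresentation R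
      ((ι →₀ R) ⧸ LinearMap.range φ.hom) := by
    refine Module.finitePresentation_of_surjective (LinearMap.range φ.hom).mkQ
      (Submodule.mkQ_surjective _) ?_
    rw [Submodule.ker_mkQ, LinearMap.range_eq_map]
    exact Module.Finite.fg_top.map _
  exact Module.FinitePresentation.of_equiv
    ((ModuleCat.cokernelIsoRangeQuotient φ).symm ≪≫
      (tilde.functor R).preimageIso e).toLinearEquiv

/-- A finitely presented module has finitely presented sections on small affine opens. -/
theorem exists_affine_finitePresentation {X : Scheme.{u}} (M : X.Modules) [M.IsQuasicoherent]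
    (hM : CohB1.IsFP M) (x : X) :
    ∃ W : X.Opens, x ∈ W ∧ ∀ V : X.Opens, IsAffineOpen V → V ≤ W →
      Module.FinitePresentation Γ(X, V) Γ(M, V) := by
  obtain ⟨σ, hσ⟩ := hM
  have hcov : iSup σ.X = ⊤ := (Opens.coversTop_iff _ _).1 σ.coversTop
  obtain ⟨i, hi⟩ := Opens.mem_iSup.1 (hcov.ge (Opens.mem_top x))
  refine ⟨σ.X i, hi, fun V hV hle => ?_⟩
  let t : Spec Γ(X, V) ⟶ (σ.X i : Scheme.{u}) := hV.isoSpec.inv ≫ X.homOfLE hle
  let F : SheafOfModules.{u} (X.ringCatSheaf.over (σ.X i)) ⥤
      SheafOfModules.{u} (Spec Γ(X, V)).ringCatSheaf :=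
    (Scheme.Modules.overEquiv (σ.X i)).functor ⋙ Scheme.Modules.restrictFunctor t
  haveI : PreservesColimitsOfSize.{u, u} F := inferInstanceAs (PreservesColimitsOfSize.{u, u}
    ((Scheme.Modules.overEquiv (σ.X i)).functor ⋙ Scheme.Modules.restrictFunctor t))
  let iso : SheafOfModules.overFunctor X.ringCatSheaf (σ.X i) ⋙ F ≅
      Scheme.Modules.restrictFunctor hV.fromSpec :=
    (Functor.associator _ _ _).symm ≪≫
      Functor.isoWhiskerRight (Scheme.Modules.overFunctorEquiv _) _ ≪≫
      (Scheme.Modules.restrictFunctorComp _ _).symm ≪≫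
      Scheme.Modules.restrictFunctorCongr (show t ≫ Scheme.Opens.ι (U := σ.X i) = hV.fromSpec by simp [t])
  let η : SheafOfModules.unit (Spec Γ(X, V)).ringCatSheaf ≅
      F.obj (SheafOfModules.unit (X.ringCatSheaf.over (σ.X i))) :=
    (iso.app (SheafOfModules.unit X.ringCatSheaf) ≪≫
      Scheme.Modules.restrictUnitIso hV.fromSpec).symm
  let P : (M.restrict hV.fromSpec).Presentation :=
    SheafOfModules.Presentation.ofIsIso.{u, u, u} (iso.app M).hom ((σ.presentation i).map F η)
  haveI : Finite P.generators.I := (hσ.isFinite_presentation i).isFiniteType_generators.finite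
  haveI : Finite P.relations.I := (hσ.isFinite_presentation i).isFiniteType_relations.finite
  haveI : IsIso (M.restrict hV.fromSpec).fromTildeΓ := inferInstance
  haveI := finitePresentation_sections_of_presentation (M.restrict hV.fromSpec) P
  exact Module.FinitePresentation.of_equiv (sectionsEquiv M hV)

end Groth.Agent.QCohBase
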